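import Mathlib

/-!
Linear groups with an elementary abelian group `A` moving a perfect subgroup `K` to a
commuting conjugate: the common setting for the proof of the `P(G,V)`-theorem.
-/

set_option autoImplicit false

namespace Cfsg.Agent.Lib.PGV

open Subgroup
open scoped commutatorElement

variable {G V : Type*} [Group G] [AddCommGroup V] {p : ℕ} [Module (ZMod p) V]

/-- The endomorphism `ρ a - 1`. -/
def nil (r : G →* Module.End (ZMod p) V) (a : G) : Module.End (ZMod p) V := r a - 1

/-- The elements fixing `M` under left multiplication. -/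
def fixL (r : G →* Module.End (ZMod p) V) (M : Module.End (ZMod p) V) : Subgroup G where
  carrier := {g | r g * M = M}
  one_mem' := by simp
  mul_mem' {a b} (ha hb) := by
    simp only [Set.mem_setOf_eq] at ha hb ⊢
    rw [map_mul, mul_assoc, hb, ha]
  inv_mem' {a} (ha) := by
    simp only [Set.mem_setOf_eq] at ha ⊢
    calc r a⁻¹ * M = r a⁻¹ * (r a * M) := by rw [ha]
      _ = M := by rw [← mul_assoc, ← map_mul, inv_mul_cancel, map_one, one_mul]

/-- The elements fixing `M` under right multiplication. -/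
def fixR (r : G →* Module.End (ZMod p) V) (M : Module.End (ZMod p) V) : Subgroup G where
  carrier := {g | M * r g = M}
  one_mem' := by simp
  mul_mem' {a b} (ha hb) := by
    simp only [Set.mem_setOf_eq] at ha hb ⊢
    rw [map_mul, ← mul_assoc, ha, hb]
  inv_mem' {a} (ha) := by
    simp only [Set.mem_setOf_eq] at ha ⊢
    calc M * r a⁻¹ = M * r a * r a⁻¹ := by rw [ha]
      _ = M := by rw [mul_assoc, ← map_mul, mul_inv_cancel, map_one, mul_one]

/-- The elements commuting with `φ`. -/
def commG (r : G →* Module.End (ZMod p) V) (φ : Module.End (ZMod p) V) : Subgroup G where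
  carrier := {g | Commute φ (r g)}
  one_mem' := by simp
  mul_mem' {a b} (ha hb) := by
    simp only [Set.mem_setOf_eq, map_mul] at ha hb ⊢
    exact ha.mul_right hb
  inv_mem' {a} (ha) := by
    simp only [Set.mem_setOf_eq] at ha ⊢
    have h : ∀ φ' : Module.End (ZMod p) V, φ' * r a = r a * φ' → φ' * r a⁻¹ = r a⁻¹ * φ' := by
      intro φ' h'
      calc φ' * r a⁻¹ = r a⁻¹ * (r a * φ') * r a⁻¹ := by
            rw [← mul_assoc, ← map_mul, inv_mul_cancel, map_one, one_mul]
        _ = r a⁻¹ * φ' := by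
            rw [← h', mul_assoc, mul_assoc φ', ← map_mul, mul_inv_cancel, map_one, mul_one]
    exact h φ ha

/-- The fixed points of a subgroup. -/
def fixed (r : G →* Module.End (ZMod p) V) (B : Subgroup G) : Submodule (ZMod p) V where
  carrier := {v | ∀ b ∈ B, r b v = v}
  add_mem' {a b} (ha hb) := fun c hc => by rw [map_add, ha c hc, hb c hc]
  zero_mem' := fun c _ => map_zero _
  smul_mem' c a (ha) := fun d hd => by rw [map_smul, ha d hd]

section

variable {r : G →* Module.End (ZMod p) V}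

theorem mem_fixL {M : Module.End (ZMod p) V} {g : G} : g ∈ fixL r M ↔ nil r g * M = 0 := by
  show r g * M = M ↔ _
  rw [nil, sub_mul, one_mul, sub_eq_zero]

theorem mem_fixR {M : Module.End (ZMod p) V} {g : G} : g ∈ fixR r M ↔ M * nil r g = 0 := by
  show M * r g = M ↔ _
  rw [nil, mul_sub, mul_one, sub_eq_zero]

theorem mem_fixed {B : Subgroup G} {v : V} : v ∈ fixed r B ↔ ∀ b ∈ B, r b v = v := Iff.rfl

theorem r_eq_add (g : G) : r g = 1 + nil r g := by rw [nil, add_sub_cancel]

@[simp] theorem nil_one : nil r 1 = 0 := by simp [nil]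

theorem nil_eq_zero {g : G} : nil r g = 0 ↔ r g = 1 := sub_eq_zero

theorem nil_mul (a b : G) : nil r (a * b) = nil r a * nil r b + nil r a + nil r b := by
  simp only [nil, map_mul]; noncomm_ring

theorem nil_apply (g : G) (v : V) : nil r g v = r g v - v := by simp [nil]

theorem commute_r_nil {a b : G} (h : Commute a b) : Commute (r a) (nil r b) :=
  ((h.map r)).sub_right (Commute.one_right _)

theorem commute_nil_r {a b : G} (h : Commute a b) : Commute (nil r a) (r b) :=
  (commute_r_nil h.symm).symm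

theorem commute_nil {a b : G} (h : Commute a b) : Commute (nil r a) (nil r b) :=
  (commute_r_nil h).sub_left (Commute.one_left _)

theorem r_inv_mul (a : G) : r a⁻¹ * r a = 1 := by rw [← map_mul, inv_mul_cancel, map_one]

theorem r_mul_inv (a : G) : r a * r a⁻¹ = 1 := by rw [← map_mul, mul_inv_cancel, map_one]

/-- Conjugating a relation `nil g * M = 0`. -/
theorem r_apply_injective (g : G) : Function.Injective (r g) := fun x y h => by
  have := congrArg (r g⁻¹) h
  rwa [← Module.End.mul_apply, ← Module.End.mul_apply, r_inv_mul, Module.End.one_apply,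
    Module.End.one_apply] at this

theorem natCast_p_eq_zero : ((p : ℕ) : Module.End (ZMod p) V) = 0 := by
  rw [← map_natCast (algebraMap (ZMod p) (Module.End (ZMod p) V)), ZMod.natCast_self, map_zero]

end

/-- The data for the theorem. -/
structure Setup (p : ℕ) (G V : Type*) [Group G] [AddCommGroup V] [Module (ZMod p) V] where
  r : G →* Module.End (ZMod p) V
  A : Subgroup G
  K : Subgroup G
  gen : K ⊔ A = ⊤
  comm : ∀ a ∈ A, ∀ b ∈ A, a * b = b * a
  expo : ∀ a ∈ A, a ^ p = 1
  perfect : ⁅K, K⁆ = K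
  quasi : ∀ b ∈ normalizer (K : Set G), (∃ k ∈ K, ¬ Commute b k) →
    K ≤ Subgroup.closure {y | ∃ k ∈ K, y = k * b * k⁻¹ * b⁻¹}
  sep : ∀ a ∈ A, a ∉ normalizer (K : Set G) → ∀ k ∈ K, ∀ l ∈ K, Commute k (a * l * a⁻¹)
  nontriv : ∃ k ∈ K, r k ≠ 1
  minimal : ∀ U : Submodule (ZMod p) V, (∀ g, ∀ u ∈ U, r g u ∈ U) → U ≠ ⊤ →
    ∀ k ∈ K, ∀ u ∈ U, r k u = u
  offender : ∀ B : Subgroup G, B ≤ A →
    Nat.card B * Nat.card (fixed r B) ≤ Nat.card A * Nat.card (fixed r A)
  x₀ : G
  x₀_mem : x₀ ∈ A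
  x₀_notMem : x₀ ∉ normalizer (K : Set G)

namespace Setup

variable (S : Setup p G V)

theorem perfect_le (H : Subgroup G) (h : ∀ g ∈ S.K, ∀ l ∈ S.K, ⁅g, l⁆ ∈ H) : S.K ≤ H :=
  S.perfect.symm.le.trans (Subgroup.commutator_le.2 h)

theorem triv_left {M : Module.End (ZMod p) V}
    (h : ∀ l ∈ S.K, ∀ g ∈ S.K, nil S.r l * nil S.r g * M = 0) :
    ∀ g ∈ S.K, nil S.r g * M = 0 := by
  intro g hg
  refine mem_fixL.1 (S.perfect_le (fixL S.r M) (fun a ha b hb => ?_) hg)
  have key : ∀ a ∈ S.K, ∀ b ∈ S.K, S.r (a * b) * M = S.r (b * a) * M := by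
    intro a ha b hb
    have e : ∀ a b : G, S.r (a * b) * M =
        M + nil S.r a * M + nil S.r b * M + nil S.r a * nil S.r b * M := fun a b => by
      simp only [nil, map_mul]; noncomm_ring
    rw [e, e, h a ha b hb, h b hb a ha]; abel
  show S.r ⁅a, b⁆ * M = M
  have h1 := key (b⁻¹) (inv_mem hb) (a⁻¹) (inv_mem ha)
  rw [show ⁅a, b⁆ = (b⁻¹ * a⁻¹)⁻¹ * (a⁻¹ * b⁻¹) by simp [commutatorElement_def, mul_assoc],
    map_mul, mul_assoc, ← h1, ← mul_assoc, r_inv_mul, one_mul]

theorem triv_right {M : Module.End (ZMod p) V}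
    (h : ∀ l ∈ S.K, ∀ g ∈ S.K, M * nil S.r l * nil S.r g = 0) :
    ∀ g ∈ S.K, M * nil S.r g = 0 := by
  intro g hg
  refine mem_fixR.1 (S.perfect_le (fixR S.r M) (fun a ha b hb => ?_) hg)
  have key : ∀ a ∈ S.K, ∀ b ∈ S.K, M * S.r (a * b) = M * S.r (b * a) := by
    intro a ha b hb
    have e : ∀ a b : G, M * S.r (a * b) =
        M + M * nil S.r a + M * nil S.r b + M * nil S.r a * nil S.r b := fun a b => by
      simp only [nil, map_mul]; noncomm_ring
    rw [e, e, h a ha b hb, h b hb a ha]; abel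
  show M * S.r ⁅a, b⁆ = M
  rw [show ⁅a, b⁆ = (a * b) * (b * a)⁻¹ by simp [commutatorElement_def, mul_assoc],
    map_mul, ← mul_assoc, key a ha b hb, mul_assoc, r_mul_inv, mul_one]

/-- Annihilating products contradict non-triviality. -/
theorem false_of_nil_mul (h : ∀ l ∈ S.K, ∀ g ∈ S.K, nil S.r l * nil S.r g = 0) : False := by
  obtain ⟨k, hk, hne⟩ := S.nontriv
  have := S.triv_left (M := 1) (fun l hl g hg => by rw [mul_one, h l hl g hg]) k hk
  rw [mul_one] at this
  exact hne (nil_eq_zero.1 this)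

/-- The image of `K` is not commutative. -/
theorem false_of_commute (h : ∀ g ∈ S.K, ∀ l ∈ S.K, Commute (S.r g) (S.r l)) : False := by
  obtain ⟨k, hk, hne⟩ := S.nontriv
  apply hne
  refine S.perfect_le S.r.ker (fun g hg l hl => ?_) hk
  rw [MonoidHom.mem_ker, commutatorElement_def, map_mul, map_mul, map_mul, (h g hg l hl).eq,
    mul_assoc (S.r l), r_mul_inv, mul_one, r_mul_inv]

/-- No noncentral element normalising `K` acts as a scalar commuting with `K`. -/
theorem false_of_quasi {b : G} (hb : b ∈ normalizer (S.K : Set G)) (hnc : ∃ k ∈ S.K, ¬ Commute b k)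
    (h : ∀ k ∈ S.K, Commute (S.r k) (S.r b)) : False := by
  obtain ⟨k, hk, hne⟩ := S.nontriv
  apply hne
  refine (S.quasi b hb hnc).trans ((Subgroup.closure_le S.r.ker).2 ?_) hk
  rintro y ⟨l, hl, rfl⟩
  show S.r (l * b * l⁻¹ * b⁻¹) = 1
  rw [map_mul, map_mul, map_mul, (h l hl).eq, mul_assoc (S.r b), r_mul_inv, mul_one, r_mul_inv]

theorem commG_eq_top {φ : Module.End (ZMod p) V} (hK : ∀ k ∈ S.K, Commute φ (S.r k))
    (hA : ∀ a ∈ S.A, Commute φ (S.r a)) : ∀ g, Commute φ (S.r g) := by
  intro g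
  have h : (⊤ : Subgroup G) ≤ commG S.r φ := S.gen.symm.le.trans (sup_le hK hA)
  exact h (Subgroup.mem_top g)

/-- A nonzero endomorphism commuting with `G` is injective. -/
theorem injective_of_commute [Finite V] {φ : Module.End (ZMod p) V} (hφ : ∀ g, Commute φ (S.r g))
    (hne : φ ≠ 0) : Function.Injective φ := by
  by_contra hinj
  have hk : LinearMap.ker φ ≠ ⊥ := fun h => hinj (LinearMap.ker_eq_bot.1 h)
  have hktop : LinearMap.ker φ ≠ ⊤ := fun h => hne (LinearMap.ker_eq_top.1 h)
  have happ : ∀ g u, φ (S.r g u) = S.r g (φ u) := fun g u => LinearMap.congr_fun (hφ g).eq u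
  have h1 : ∀ g ∈ S.K, ∀ u, φ u = 0 → S.r g u = u := fun g hg u hu =>
    S.minimal (LinearMap.ker φ) (fun g u hu => by
      rw [LinearMap.mem_ker] at hu ⊢; rw [happ, hu, map_zero]) hktop g hg u hu
  by_cases hr : LinearMap.range φ = ⊤
  · have hsurj : Function.Surjective φ := LinearMap.range_eq_top.1 hr
    exact hinj (Finite.injective_iff_surjective.2 hsurj)
  · have h2 : ∀ g ∈ S.K, ∀ u, S.r g (φ u) = φ u := fun g hg u =>
      S.minimal (LinearMap.range φ) (fun g u hu => by
        obtain ⟨w, rfl⟩ := hu; exact ⟨S.r g w, happ g w⟩) hr g hg _ ⟨u, rfl⟩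
    refine S.false_of_nil_mul fun l hl g hg => LinearMap.ext fun v => ?_
    rw [Module.End.mul_apply, LinearMap.zero_apply, nil_apply l, sub_eq_zero]
    refine h1 l hl _ ?_
    rw [nil_apply, map_sub, happ, h2 g hg v, sub_self]

end Setup

end Cfsg.Agent.Lib.PGV
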