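import Cfsg.Agent.Lib.PGV.TwoNormalizing

/-!
Characteristic two, all quadratic elements move `K`.
-/

set_option autoImplicit false

namespace Cfsg.Agent.Lib.PGV

open Subgroup
open scoped commutatorElement

variable {G V : Type*} [Group G] [AddCommGroup V] [Module (ZMod 2) V] [Finite G] [Finite V]

theorem eq_zero_or_eq_of_card_le_two {M : Submodule (ZMod 2) V} (h : Nat.card M ≤ 2) {v : V}
    (hv : v ∈ M) (hv0 : v ≠ 0) {u : V} (hu : u ∈ M) : u = 0 ∨ u = v := by
  by_contra hn
  push Not at hn
  let j : Fin 3 → M := ![0, ⟨v, hv⟩, ⟨u, hu⟩]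
  have hj : Function.Injective j := by
    intro a a' haa
    have haa' := congrArg Subtype.val haa
    fin_cases a <;> fin_cases a' <;> simp [j, hv0, Ne.symm hv0, hn.1, hn.2, Ne.symm hn.1,
      Ne.symm hn.2] at haa' ⊢
  have := Nat.card_le_card_of_injective j hj
  rw [Nat.card_fin] at this
  omega

namespace Setup

variable (S : Setup 2 G V)

/-- The case where the quadratic elements all move `K`. -/
theorem false_of_moving_two {x : G} (hx : x ∈ S.quad) (hxN : x ∉ normalizer (S.K : Set G))
    (hall : ∀ b ∈ S.quad, b ∈ normalizer (S.K : Set G) → S.r b = 1) : False := by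
  have hxA := hx.1
  have hpair : ∀ y ∈ S.A, y ∉ normalizer (S.K : Set G) → x * y ∈ normalizer (S.K : Set G) :=
    fun y hy hyN => by_contra fun hn => S.false_of_pair hxA hy hxN hyN hn (hx.2 y hy)
  -- the size of the image of `x - 1`
  have hQ : Nat.card S.quad ≤ 2 * Nat.card S.kerA := by
    classical
    let f : S.quad → S.kerA ⊕ S.kerA := fun a =>
      if h : (a : G) ∈ normalizer (S.K : Set G) then Sum.inl ⟨a, ⟨a.2.1, hall _ a.2 h⟩⟩
      else Sum.inr ⟨x * a, ⟨mul_mem hxA a.2.1,
        hall _ (mul_mem hx a.2) (hpair _ a.2.1 h)⟩⟩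
    have hf : Function.Injective f := by
      intro a a' h
      simp only [f] at h
      split_ifs at h
      · exact Subtype.ext (congrArg (fun q : S.kerA => (q : G)) (Sum.inl.inj h))
      · exact Subtype.ext
          (mul_left_cancel (congrArg (fun q : S.kerA => (q : G)) (Sum.inr.inj h)))
    have := Nat.card_le_card_of_injective f hf
    rw [Nat.card_sum] at this
    omega
  set N := nil S.r x with hN
  have hrange : Nat.card (LinearMap.range N) ≤ 2 := by
    have h1 := S.card_le_quad
    have h2 : Nat.card ↥(S.comm' Set.univ ⊔ fixed S.r S.A) ≤ Nat.card (LinearMap.ker N) :=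
      Nat.card_le_card_of_injective _
        (Submodule.inclusion_injective (S.comm'_sup_fixed_le_ker hx))
    have h3 : Nat.card S.kerA * Nat.card V ≤
        Nat.card S.kerA * (2 * Nat.card (LinearMap.ker N)) := by
      refine h1.trans ((Nat.mul_le_mul hQ h2).trans ?_)
      rw [mul_comm 2, mul_assoc]
    have h4 := Nat.le_of_mul_le_mul_left h3 Nat.card_pos
    rw [Submodule.card_eq_card_quotient_mul_card (LinearMap.ker N),
      Nat.card_congr N.quotKerEquivRange.toEquiv, mul_comm 2] at h4
    exact Nat.le_of_mul_le_mul_left h4 Nat.card_pos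
  obtain ⟨v, hv, hv0⟩ : ∃ v ∈ LinearMap.range N, v ≠ 0 := by
    by_contra h
    push Not at h
    exact S.r_ne_one_of_notMem hxA hxN (nil_eq_zero.1 (LinearMap.ext fun u => h _ ⟨u, rfl⟩))
  have hdich : ∀ u, N u = 0 ∨ N u = v := fun u =>
    eq_zero_or_eq_of_card_le_two hrange hv hv0 ⟨u, rfl⟩
  have hfix : ∀ m, Commute x m → S.r m v = v := by
    intro m hm
    obtain ⟨u, rfl⟩ := hv
    have e : S.r m (N u) = N (S.r m u) :=
      LinearMap.congr_fun (commute_r_nil (r := S.r) hm.symm).eq u
    rcases hdich (S.r m u) with h | h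
    · rw [← e] at h
      exact absurd (r_apply_injective m (h.trans (map_zero _).symm)) hv0
    · exact e.trans h
  have hP : ∀ g ∈ S.K, N * nil S.r (orb x g 2) = 0 := by
    intro g hg
    have hc := S.commute_x_orb hxA hxN hg
    rw [hN, (commute_nil (r := S.r) hc).eq]
    refine LinearMap.ext fun u => ?_
    rw [Module.End.mul_apply, LinearMap.zero_apply, nil_apply (orb x g 2), sub_eq_zero, ← hN]
    rcases hdich u with h | h <;> rw [h]
    · exact map_zero _
    · exact hfix _ hc
  have htr : ∀ g ∈ S.K, S.tr g = S.tr (x * g * x⁻¹) := fun g hg =>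
    S.tr_eq_of_annihilate hxA (S.pair_commute hxA hxN hg hg) (by rw [← orb_two]; exact hP g hg)
  by_cases hmove : ∃ k ∈ S.K, S.r k v ≠ v
  · -- all traces are scalars
    obtain ⟨k₀, hk₀, hk₀v⟩ := hmove
    let E := S.K ⊔ S.K.map (MulAut.conj x).toMonoidHom
    have hAE : ∀ a ∈ S.A, ∀ e ∈ E, a * e * a⁻¹ ∈ E := by
      intro a ha
      have hle : E ≤ E.comap (MulAut.conj a).toMonoidHom := by
        refine sup_le (fun k hk => ?_) (fun m hm => ?_)
        · show a * k * a⁻¹ ∈ E
          by_cases haN : a ∈ normalizer (S.K : Set G)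
          · exact mem_sup_left ((Subgroup.mem_normalizer_iff.1 haN k).1 hk)
          · refine mem_sup_right ⟨(x * a) * k * (x * a)⁻¹,
              (Subgroup.mem_normalizer_iff.1 (hpair a ha haN) k).1 hk, ?_⟩
            show x * (x * a * k * (x * a)⁻¹) * x⁻¹ = a * k * a⁻¹
            calc x * (x * a * k * (x * a)⁻¹) * x⁻¹ = (x * x) * (a * k * a⁻¹) * (x * x)⁻¹ := by
                  simp [mul_assoc]
              _ = a * k * a⁻¹ := by rw [S.mul_self_A hxA]; simp
        · obtain ⟨k, hk, rfl⟩ := hm
          show a * (x * k * x⁻¹) * a⁻¹ ∈ E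
          by_cases haN : a ∈ normalizer (S.K : Set G)
          · refine mem_sup_right ⟨a * k * a⁻¹, (Subgroup.mem_normalizer_iff.1 haN k).1 hk, ?_⟩
            show x * (a * k * a⁻¹) * x⁻¹ = a * (x * k * x⁻¹) * a⁻¹
            calc x * (a * k * a⁻¹) * x⁻¹ = (x * a) * k * (x * a)⁻¹ := by simp [mul_assoc]
              _ = (a * x) * k * (a * x)⁻¹ := by rw [S.comm x hxA a ha]
              _ = a * (x * k * x⁻¹) * a⁻¹ := by simp [mul_assoc]
          · refine mem_sup_left ?_
            have h1 := (Subgroup.mem_normalizer_iff.1 (hpair a ha haN) k).1 hk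
            rw [S.comm x hxA a ha] at h1
            simpa [mul_assoc] using h1
      exact fun e he => hle he
    have hn : E.Normal := by
      rw [← Subgroup.normalizer_eq_top_iff, eq_top_iff, ← S.gen, sup_le_iff]
      refine ⟨le_sup_left.trans Subgroup.le_normalizer, fun a ha => ?_⟩
      refine Subgroup.mem_normalizer_iff.2 fun e => ⟨hAE a ha e, fun h => ?_⟩
      have := hAE _ (inv_mem ha) _ h
      simpa [mul_assoc] using this
    have hEA : ∀ l : G, ∃ e ∈ E, ∃ a ∈ S.A, e * a = l := fun l => by
      have hl : l ∈ E ⊔ S.A :=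
        (show (⊤ : Subgroup G) ≤ E ⊔ S.A from S.gen ▸ sup_le_sup_right le_sup_left _)
          (Subgroup.mem_top l)
      exact Subgroup.mem_sup_of_normal_left.1 hl
    refine S.false_of_tr fun g hg => ?_
    have hcx : Commute (S.tr g) (S.r x) := by
      show S.tr g * S.r x = S.r x * S.tr g
      have e := (S.tr_conj x g).trans (htr g hg).symm
      conv_lhs => rw [← e]
      rw [mul_assoc, r_inv_mul, mul_one]
    have hcE : E ≤ commG S.r (S.tr g) := by
      refine sup_le (fun k hk => ?_) ?_
      · show Commute (S.tr g) (S.r k)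
        rw [htr g hg]
        exact (S.commute_r_tr (S.pair_commute hxA hxN hk hg)).symm
      · rintro _ ⟨k, hk, rfl⟩
        exact (S.commute_r_tr (S.pair_commute hxA hxN hg hk).symm).symm
    have hv' : S.tr g v = 0 ∨ S.tr g v = v := by
      obtain ⟨u, rfl⟩ := hv
      have e : S.tr g (N u) = N (S.tr g u) :=
        LinearMap.congr_fun (hcx.sub_right (Commute.one_right _)).eq u
      rw [e]; exact hdich _
    have key : ∀ φ : Module.End (ZMod 2) V, (∀ e ∈ E, Commute φ (S.r e)) → φ v = 0 → φ = 0 := by
      intro φ hφ hφv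
      let Y : Submodule (ZMod 2) V := ⨅ l : G, LinearMap.ker (φ * S.r l)
      by_contra hne
      have hY : Y ≠ ⊤ := fun h => hne (LinearMap.ext fun u => by
        have hu : u ∈ Y := h ▸ Submodule.mem_top
        have := LinearMap.mem_ker.1 ((Submodule.mem_iInf _).1 hu 1)
        rwa [map_one, mul_one] at this)
      have hvY : v ∈ Y := (Submodule.mem_iInf _).2 fun l => by
        obtain ⟨e, he, a, ha, rfl⟩ := hEA l
        rw [LinearMap.mem_ker, Module.End.mul_apply, map_mul, Module.End.mul_apply,
          hfix a (S.comm x hxA a ha), ← Module.End.mul_apply, (hφ e he).eq, Module.End.mul_apply,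
          hφv, map_zero]
      refine hk₀v (S.minimal Y (fun l u hu => (Submodule.mem_iInf _).2 fun l' => ?_) hY k₀ hk₀ v hvY)
      rw [LinearMap.mem_ker, Module.End.mul_apply, ← Module.End.mul_apply (S.r l'), ← map_mul]
      exact LinearMap.mem_ker.1 ((Submodule.mem_iInf _).1 hu (l' * l))
    rcases hv' with h | h
    · exact Or.inl (key _ (fun e he => hcE he) h)
    · right
      rw [← sub_eq_zero]
      exact key _ (fun e he => (hcE he : Commute _ _).sub_left (Commute.one_left _))
        (by rw [LinearMap.sub_apply, Module.End.one_apply, h, sub_self])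
  · push Not at hmove
    have hgN : ∀ g ∈ S.K, S.r g * N = N := by
      intro g hg
      refine LinearMap.ext fun u => ?_
      rw [Module.End.mul_apply]
      rcases hdich u with h | h <;> rw [h]
      · exact map_zero _
      · exact hmove g hg
    have hNN : N * N = 0 := S.nil_sq hxA
    have hg' : ∀ g ∈ S.K, S.r (x * g * x⁻¹) = S.r g + N * (S.r g + 1) := by
      intro g hg
      rw [map_mul, map_mul, S.inv_eq_A hxA, S.r_A_eq hxA, ← hN]
      simp only [add_mul, mul_add, one_mul, mul_one, mul_assoc, hgN g hg, hNN, add_zero]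
      abel
    refine S.false_of_nil_mul fun m hm c hc => mem_fixR.1
      (S.perfect_le (fixR S.r (nil S.r m)) (fun g hg l hl => ?_) hc)
    have hmN : nil S.r m * N = 0 := by rw [nil, sub_mul, hgN m hm, one_mul, sub_self]
    have e : S.r l * S.r (x * g * x⁻¹) = S.r (x * g * x⁻¹) * S.r l :=
      ((S.pair_commute hxA hxN hl hg).map S.r).eq
    rw [hg' g hg, mul_add, add_mul, ← mul_assoc (S.r l) N, hgN l hl] at e
    have e' := congrArg (nil S.r m * ·) e
    simp only [mul_add, ← mul_assoc, hmN, zero_mul, add_zero] at e'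
    show nil S.r m * S.r ⁅g, l⁆ = nil S.r m
    rw [show ⁅g, l⁆ = (g * l) * (l * g)⁻¹ by simp [commutatorElement_def, mul_assoc], map_mul,
      ← mul_assoc, map_mul S.r g l, ← mul_assoc (nil S.r m), ← e', mul_assoc (nil S.r m), ← map_mul,
      mul_assoc, r_mul_inv, mul_one]

include S in
/-- The case of characteristic two. -/
theorem false_of_two : False := by
  obtain ⟨a, ha, hak⟩ := S.exists_quad_not_kerA
  have hne : S.r a ≠ 1 := fun h => hak (S.mem_kerA.2 ⟨ha.1, h⟩)
  by_cases hex : ∃ b ∈ S.quad, b ∈ normalizer (S.K : Set G) ∧ S.r b ≠ 1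
  · obtain ⟨b, hb, hbN, hbne⟩ := hex
    exact S.false_of_normalizing_two hb hbN hbne
  · push Not at hex
    exact S.false_of_moving_two ha (fun h => hne (hex a ha h)) hex

end Setup

end Cfsg.Agent.Lib.PGV
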