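import Cfsg.Agent.Lib.PGV.Odd
import Cfsg.Agent.Lib.PGV.TwoMoving
import Cfsg.Agent.Lib.Components.Basic
import Cfsg.Prelude.Def_Transfer

/-!
The `P(G,V)`-theorem: best offenders on faithful modules normalise every component.
-/

set_option autoImplicit false

namespace Cfsg.Agent.Lib.PGV

open Subgroup Cfsg
open scoped commutatorElement

universe u v

theorem false_of_setup {p : ℕ} [Fact p.Prime] {G : Type u} [Group G] [Finite G] {V : Type v}
    [AddCommGroup V] [Finite V] [Module (ZMod p) V] (S : Setup p G V) : False := by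
  by_cases hp : p = 2
  · subst hp
    exact S.false_of_two
  · exact S.false_of_odd hp

variable {p : ℕ} [Fact p.Prime] {G : Type u} [Group G] [Finite G]

/-- The induction on the module. -/
theorem no_moving_offender (A K : Subgroup G) (gen : K ⊔ A = ⊤)
    (comm : ∀ a ∈ A, ∀ b ∈ A, a * b = b * a) (expo : ∀ a ∈ A, a ^ p = 1) (perfect : ⁅K, K⁆ = K)
    (quasi : ∀ b ∈ normalizer (K : Set G), (∃ k ∈ K, ¬ Commute b k) →
      K ≤ Subgroup.closure {y | ∃ k ∈ K, y = k * b * k⁻¹ * b⁻¹})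
    (sep : ∀ a ∈ A, a ∉ normalizer (K : Set G) → ∀ k ∈ K, ∀ l ∈ K, Commute k (a * l * a⁻¹))
    (x₀ : G) (hx₀ : x₀ ∈ A) (hx₀N : x₀ ∉ normalizer (K : Set G)) :
    ∀ (n : ℕ) (V : Type v) [AddCommGroup V] [Finite V] [Module (ZMod p) V], Nat.card V ≤ n →
      ∀ r : G →* Module.End (ZMod p) V, (∃ k ∈ K, r k ≠ 1) →
      (∀ B : Subgroup G, B ≤ A →
        Nat.card B * Nat.card (fixed r B) ≤ Nat.card A * Nat.card (fixed r A)) → False := by
  intro n
  induction n with
  | zero =>
    intro V _ _ _ hcard _ _ _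
    exact absurd hcard (by simp [Nat.card_pos.ne'])
  | succ n ih =>
    intro V _ _ _ hcard r hne hoff
    by_cases hmin : ∀ U : Submodule (ZMod p) V, (∀ g, ∀ u ∈ U, r g u ∈ U) → U ≠ ⊤ →
        ∀ k ∈ K, ∀ u ∈ U, r k u = u
    · exact false_of_setup ⟨r, A, K, gen, comm, expo, perfect, quasi, sep, hne, hmin, hoff, x₀,
        hx₀, hx₀N⟩
    push Not at hmin
    obtain ⟨U, hU, hUtop, k, hk, u, hu, huk⟩ := hmin
    let r' : G →* Module.End (ZMod p) U :=
      { toFun := fun g => (r g).restrict (hU g)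
        map_one' := by ext; simp
        map_mul' := fun g g' => by ext; simp }
    refine ih U ?_ r' ⟨k, hk, fun h => huk (congrArg Subtype.val
      (LinearMap.congr_fun h (⟨u, hu⟩ : U)))⟩ fun B hB => ?_
    · have h1 := Submodule.finrank_lt hUtop
      have h2 : Nat.card U < Nat.card V := by
        rw [Module.natCard_eq_pow_finrank (K := ZMod p),
          Module.natCard_eq_pow_finrank (K := ZMod p) (V := V)]
        exact Nat.pow_lt_pow_right (by rw [Nat.card_zmod]; exact (Fact.out : p.Prime).one_lt) h1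
      omega
    have hcardfix : ∀ B : Subgroup G,
        Nat.card (fixed r' B) = Nat.card ↥(U ⊓ fixed r B) := fun B => Nat.card_congr
      { toFun := fun w => ⟨((w : U) : V), (w : U).2,
          fun b hb => congrArg Subtype.val (w.2 b hb)⟩
        invFun := fun w => ⟨⟨w, w.2.1⟩, fun b hb => Subtype.ext (w.2.2 b hb)⟩
        left_inv := fun _ => rfl
        right_inv := fun _ => rfl }
    rw [hcardfix, hcardfix]
    set CB := fixed r B
    set CA := fixed r A
    have hAB : CA ≤ CB := fun v hv b hb => hv b (hB hb)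
    have h1 : Nat.card ↥(U ⊓ CB) * Nat.card CA ≤ Nat.card CB * Nat.card ↥(U ⊓ CA) := by
      rw [← card_sup_mul_card_inf (U ⊓ CB) CA]
      have hle : U ⊓ CB ⊔ CA ≤ CB := sup_le inf_le_right hAB
      have hle' : U ⊓ CB ⊓ CA ≤ U ⊓ CA := le_inf (inf_le_left.trans inf_le_left) inf_le_right
      refine Nat.mul_le_mul
        (Nat.card_le_card_of_injective _
          (Submodule.inclusion_injective hle))
        (Nat.card_le_card_of_injective _ (Submodule.inclusion_injective hle'))
    refine Nat.le_of_mul_le_mul_right ?_ (Nat.card_pos (α := CA))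
    calc Nat.card B * Nat.card ↥(U ⊓ CB) * Nat.card CA
        = Nat.card B * (Nat.card ↥(U ⊓ CB) * Nat.card CA) := mul_assoc _ _ _
      _ ≤ Nat.card B * (Nat.card CB * Nat.card ↥(U ⊓ CA)) := Nat.mul_le_mul_left _ h1
      _ = Nat.card B * Nat.card CB * Nat.card ↥(U ⊓ CA) := (mul_assoc _ _ _).symm
      _ ≤ Nat.card A * Nat.card CA * Nat.card ↥(U ⊓ CA) := Nat.mul_le_mul_right _ (hoff B hB)
      _ = Nat.card A * Nat.card ↥(U ⊓ CA) * Nat.card CA := by ring

omit [Fact p.Prime] [Finite G] in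
/-- The commutators of a quasisimple subgroup with a normalising element not centralising it
generate it. -/
theorem le_closure_commutators {K : Subgroup G} (hK : IsQuasisimple K) {b : G}
    (hb : b ∈ normalizer (K : Set G)) (hnc : ∃ k ∈ K, ¬ Commute b k) :
    K ≤ Subgroup.closure {y | ∃ k ∈ K, y = k * b * k⁻¹ * b⁻¹} := by
  set s := {y | ∃ k ∈ K, y = k * b * k⁻¹ * b⁻¹} with hs
  set N := Subgroup.closure s with hN
  have hNK : N ≤ K := by
    rw [hN, Subgroup.closure_le]
    rintro y ⟨k, hk, rfl⟩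
    rw [show k * b * k⁻¹ * b⁻¹ = k * (b * k⁻¹ * b⁻¹) by simp [mul_assoc]]
    exact mul_mem hk ((Subgroup.mem_normalizer_iff.1 hb _).1 (inv_mem hk))
  have hconj : ∀ l ∈ K, ∀ y ∈ N, l * y * l⁻¹ ∈ N := by
    intro l hl
    have : N ≤ N.comap (MulAut.conj l).toMonoidHom := by
      rw [hN, Subgroup.closure_le]
      rintro y ⟨k, hk, rfl⟩
      show l * (k * b * k⁻¹ * b⁻¹) * l⁻¹ ∈ Subgroup.closure s
      rw [show l * (k * b * k⁻¹ * b⁻¹) * l⁻¹ =
        (l * k * b * (l * k)⁻¹ * b⁻¹) * (l * b * l⁻¹ * b⁻¹)⁻¹ by simp [mul_assoc]]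
      exact mul_mem (Subgroup.subset_closure ⟨l * k, mul_mem hl hk, rfl⟩)
        (inv_mem (Subgroup.subset_closure ⟨l, hl, rfl⟩))
    exact fun y hy => this hy
  have hnorm : (N.subgroupOf K).Normal := ⟨fun y hy l => hconj l l.2 y hy⟩
  rcases Components.quasisimple_normal_eq_top_or_le_center hK (N.subgroupOf K) with h | h
  · exact Subgroup.subgroupOf_eq_top.1 h
  · exfalso
    obtain ⟨k₀, hk₀, hne⟩ := hnc
    have hz : ∀ g ∈ K, ∀ l ∈ K, Commute l (g * b * g⁻¹ * b⁻¹) := by
      intro g hg l hl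
      have hm : g * b * g⁻¹ * b⁻¹ ∈ N := Subgroup.subset_closure ⟨g, hg, rfl⟩
      exact congrArg Subtype.val (Subgroup.mem_center_iff.1
        (h (show (⟨_, hNK hm⟩ : K) ∈ N.subgroupOf K from hm)) ⟨l, hl⟩)
    have hf : ∀ g ∈ K, ∀ l ∈ K, (g * l) * b * (g * l)⁻¹ * b⁻¹ =
        (l * b * l⁻¹ * b⁻¹) * (g * b * g⁻¹ * b⁻¹) := by
      intro g hg l hl
      calc (g * l) * b * (g * l)⁻¹ * b⁻¹ = g * (l * b * l⁻¹ * b⁻¹) * (b * g⁻¹ * b⁻¹) := by
            simp [mul_assoc]
        _ = (l * b * l⁻¹ * b⁻¹) * g * (b * g⁻¹ * b⁻¹) := by rw [(hz l hl g hg).eq]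
        _ = _ := by simp [mul_assoc]
    have hcent : K ≤ Subgroup.centralizer ({b} : Set G) := by
      refine (Components.quasisimple_commutator_self hK).symm.le.trans
        (Subgroup.commutator_le.2 fun g hg l hl => ?_)
      have e1 := hf _ (inv_mem hg) _ (inv_mem hl)
      have e2 := hf _ (inv_mem hl) _ (inv_mem hg)
      have hm : g⁻¹ * b * g⁻¹⁻¹ * b⁻¹ ∈ K := hNK (Subgroup.subset_closure ⟨_, inv_mem hg, rfl⟩)
      rw [(hz _ (inv_mem hl) _ hm).eq, ← e1] at e2
      have e3 := mul_right_cancel e2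
      rw [Subgroup.mem_centralizer_singleton_iff,
        show ⁅g, l⁆ = (l⁻¹ * g⁻¹)⁻¹ * (g⁻¹ * l⁻¹) by simp [commutatorElement_def, mul_assoc]]
      generalize g⁻¹ * l⁻¹ = P at e3
      generalize l⁻¹ * g⁻¹ = Q at e3
      calc Q⁻¹ * P * b = Q⁻¹ * (P * b * P⁻¹) * P := by simp [mul_assoc]
        _ = Q⁻¹ * (Q * b * Q⁻¹) * P := by rw [e3]
        _ = b * (Q⁻¹ * P) := by simp [mul_assoc]
    exact hne (Subgroup.mem_centralizer_singleton_iff.1 (hcent hk₀)).symm

/-- **The `P(G,V)`-theorem.** -/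
theorem le_normalizer_component {V : Type v} [AddCommGroup V] [Finite V] [Module (ZMod p) V]
    (ρ : G →* Module.End (ZMod p) V) (hρ : Function.Injective ρ) (A : Subgroup G)
    (hAel : IsElementaryAbelian p A)
    (hP : ∀ B : Subgroup G, B ≤ A →
      Nat.card B * Nat.card (fixed ρ B) ≤ Nat.card A * Nat.card (fixed ρ A))
    (K : Subgroup G) (hK : IsComponent K) : A ≤ normalizer (K : Set G) := by
  intro x₀ hx₀
  by_contra hx₀N
  set H := K ⊔ A with hH
  have hKH : K ≤ H := le_sup_left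
  have hAH : A ≤ H := le_sup_right
  set K' := K.subgroupOf H with hK'
  set A' := A.subgroupOf H with hA'
  have hcK : IsComponent K' := Components.isComponent_subgroupOf hK hKH
  have hnorm : ∀ a : H, a ∈ normalizer (K' : Set H) ↔ (a : G) ∈ normalizer (K : Set G) := by
    intro a
    rw [Subgroup.mem_normalizer_iff, Subgroup.mem_normalizer_iff]
    constructor
    · intro h g
      refine ⟨fun hg => (h ⟨g, hKH hg⟩).1 hg, fun hg => ?_⟩
      have hgH : g ∈ H := by
        have := mul_mem (mul_mem (inv_mem a.2) (hKH hg)) a.2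
        simpa [mul_assoc] using this
      exact (h ⟨g, hgH⟩).2 hg
    · exact fun h g => h g
  refine no_moving_offender (p := p) A' K' ?_ ?_ ?_ (Components.isComponent_commutator_self hcK)
    (fun b hb hnc => le_closure_commutators hcK.2 hb hnc) ?_ ⟨x₀, hAH hx₀⟩ hx₀
    (fun h => hx₀N ((hnorm _).1 h)) _ V le_rfl (ρ.comp H.subtype) ?_ ?_
  · rw [hK', hA', ← Subgroup.subgroupOf_sup hKH hAH, Subgroup.subgroupOf_self]
  · intro a ha b hb
    have := congrArg (fun z : A => (z : G)) (hAel.1.is_comm.comm (⟨a, ha⟩ : A) ⟨b, hb⟩)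
    exact Subtype.ext this
  · intro a ha
    exact Subtype.ext (by simpa using hAel.2 a ha)
  · intro a ha haN k hk l hl
    have hne : K'.map (MulAut.conj a).toMonoidHom ≠ K' := fun h => haN (by
      rw [Subgroup.mem_normalizer_iff_map_conj_eq]; exact h)
    have hle := Components.isComponent_le_centralizer hcK (Components.isComponent_conj hcK a)
      (Ne.symm hne) hk
    exact (Subgroup.mem_centralizer_iff.1 hle _ ⟨l, hl, rfl⟩).symm
  · obtain ⟨k, hk, hk1⟩ := (Subgroup.bot_or_exists_ne_one K).resolve_left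
      (Components.isComponent_ne_bot hK)
    exact ⟨⟨k, hKH hk⟩, hk, fun h => hk1 (hρ (h.trans (map_one ρ).symm))⟩
  · intro B hB
    have e : ∀ B : Subgroup H, B ≤ A' →
        Nat.card B = Nat.card (B.map H.subtype) ∧
        fixed (ρ.comp H.subtype) B = fixed ρ (B.map H.subtype) := fun B _ =>
      ⟨Nat.card_congr (B.equivMapOfInjective _ H.subtype_injective).toEquiv, by
        ext w
        exact ⟨fun h => by rintro _ ⟨b, hb, rfl⟩; exact h b hb,
          fun h b hb => h _ ⟨b, hb, rfl⟩⟩⟩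
    have hmA : A'.map H.subtype = A := Subgroup.map_subgroupOf_eq_of_le hAH
    rw [(e B hB).1, (e B hB).2, (e A' le_rfl).1, (e A' le_rfl).2, hmA]
    exact hP _ (hmA ▸ Subgroup.map_mono hB)

end Cfsg.Agent.Lib.PGV
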