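import Cfsg.Agent.Lib.PGV.Replacement

/-!
The odd characteristic case.
-/

set_option autoImplicit false

namespace Cfsg.Agent.Lib.PGV

open Subgroup

variable {G V : Type*} [Group G] [AddCommGroup V] {p : ℕ} [Fact p.Prime] [Module (ZMod p) V]
  [Finite G] [Finite V]

namespace Setup

variable (S : Setup p G V)

omit [Finite G] in
theorem nil_mul_nil_of_notMem {x : G} (hx : x ∈ S.A) (hxN : x ∉ normalizer (S.K : Set G))
    {g l : G} (hg : g ∈ S.K) (hl : l ∈ S.K) {i : ℕ} (h0 : 0 < i) (hi : i < p) :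
    nil S.r (cj x i g) * nil S.r l = nil S.r l * nil S.r (cj x i g) :=
  (commute_nil (S.commute_cj hx hxN h0 hi hg hl)).eq.symm

/-- No element with quadratic action moves `K`. -/
theorem false_of_quadratic (hp : p ≠ 2) {x : G} (hx : x ∈ S.A)
    (hxN : x ∉ normalizer (S.K : Set G)) (hN : nil S.r x * nil S.r x = 0) : False := by
  have hp3 : 2 < p := lt_of_le_of_ne (Fact.out : p.Prime).two_le (Ne.symm hp)
  have := charP_end (p := p) S.nontrivial_space
  obtain ⟨g, hg, hco, hnc⟩ := S.exists_pPrime_noncentral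
  set N := nil S.r x with hNdef
  set a := S.r (cj x 1 g) with ha
  set b := S.r (cj x 2 g) with hb
  have hN' : ∀ z, N * (N * z) = 0 := fun z => by rw [← mul_assoc, hN, zero_mul]
  have hx1 : S.r x = 1 + N := r_eq_add x
  have hinv : S.r x⁻¹ = 1 - N := by
    calc S.r x⁻¹ = S.r x⁻¹ * (S.r x * (1 - N)) := by
          rw [hx1]; simp [add_mul, mul_sub, hN]
      _ = 1 - N := by rw [← mul_assoc, r_inv_mul, one_mul]
  have hea : a = (1 + N) * S.r g * (1 - N) := by
    rw [ha, cj_one_eq, map_mul, map_mul, hx1, hinv]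
  have heb : b = (1 + N) * ((1 + N) * S.r g * (1 - N)) * (1 - N) := by
    rw [hb, cj_succ, map_mul, map_mul, hx1, hinv, ← hea]
  set n := S.r g + b - a - a with hn
  have hn' : n = -(N * S.r g * N + N * S.r g * N) := by
    rw [hn, hea, heb]
    simp only [add_mul, mul_add, sub_mul, mul_sub, one_mul, mul_one, mul_assoc, hN, hN', mul_zero,
      zero_mul, add_zero, sub_zero]
    noncomm_ring
  have hn2 : n ^ 2 = 0 := by
    rw [hn', neg_sq, pow_two]
    simp only [add_mul, mul_add, mul_assoc, hN', mul_zero, add_zero]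
  set k := Nat.totient (orderOf g) with hk
  have hgk : g ^ p ^ k = g := by
    conv_rhs => rw [← pow_one g]
    exact pow_eq_pow_iff_modEq.2 (Nat.ModEq.pow_totient hco)
  have hk0 : 0 < k := Nat.totient_pos.2 (orderOf_pos g)
  have hpow : ∀ i, S.r (cj x i g) ^ p ^ k = S.r (cj x i g) := fun i => by
    rw [← map_pow, cj, conj_pow, hgk]
  have h1 : Commute (S.r g) b :=
    (S.commute_cj hx hxN (i := 2) (by norm_num) hp3 hg hg).map S.r
  have h2 : Commute (S.r g) a :=
    (S.commute_cj hx hxN (i := 1) one_pos (by omega) hg hg).map S.r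
  have h3 : Commute b a :=
    (S.cj_commute hx hxN (i := 2) (j := 1) hp3 (by omega) (by norm_num) hg hg).map S.r
  have hfrob : n ^ p ^ k = n := by
    rw [hn, sub_pow_char_pow_of_commute p k ((h2.add_left h3).sub_left (Commute.refl a)),
      sub_pow_char_pow_of_commute p k (h2.add_left h3), add_pow_char_pow_of_commute p k h1]
    have e0 := hpow 0
    rw [cj_zero] at e0
    rw [e0, ha, hb, hpow, hpow]
  have hn0 : n = 0 := hfrob.symm.trans (pow_eq_zero_of_le
    ((Fact.out : p.Prime).two_le.trans (Nat.le_self_pow hk0.ne' p)) hn2)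
  have hg' : S.r g = a + a - b := by
    have h4 := hn0
    rw [hn, sub_sub, sub_eq_zero] at h4
    rw [← h4, add_sub_cancel_right]
  refine S.false_of_quasi (Subgroup.le_normalizer hg) hnc fun l hl => ?_
  rw [hg']
  have ca : Commute (S.r l) a :=
    (S.commute_cj hx hxN (i := 1) one_pos (by omega) hg hl).map S.r
  have cb : Commute (S.r l) b :=
    (S.commute_cj hx hxN (i := 2) (by norm_num) hp3 hg hl).map S.r
  exact (ca.add_right ca).sub_right cb

/-- No quadratic element of `A` normalises `K` nontrivially. -/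
theorem false_of_normalizing_odd (hp : p ≠ 2) {b : G} (hb : b ∈ S.quad)
    (hbN : b ∈ normalizer (S.K : Set G)) (hne : S.r b ≠ 1) : False := by
  have hp3 : 2 < p := lt_of_le_of_ne (Fact.out : p.Prime).two_le (Ne.symm hp)
  set x := S.x₀
  have hx := S.x₀_mem
  have hxN := S.x₀_notMem
  have hxb : nil S.r x * nil S.r b = 0 := by
    rw [(commute_nil (r := S.r) (S.comm x hx b hb.1)).eq]; exact hb.2 x hx
  have hP := S.orb_annihilate hx hxN hb.1 hbN (S.exists_not_commute hb.1 hne) hxb
  obtain ⟨g, hg, -, hnc⟩ := S.exists_pPrime_noncentral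
  refine S.false_of_cross hx hxN hP fun l hl g' hg' j hj0 hjp => ?_
  set u := orb x g p with hu
  set P := nil S.r u with hPdef
  have hxu := S.commute_x_orb hx hxN hg
  have hPl : ∀ i : ℕ, S.r (x ^ i) * P = P := fun i =>
    (pow_mem (mem_fixL.2 (hP g hg) : x ∈ fixL S.r P) i :)
  have hPr : ∀ i : ℕ, P * S.r ((x ^ i)⁻¹) = P := fun i =>
    (inv_mem (pow_mem (mem_fixR.2 (by
      rw [← (commute_nil (r := S.r) hxu).eq]; exact hP g hg) : x ∈ fixR S.r P) i) :)
  have hPr' : ∀ i : ℕ, P * S.r (x ^ i) = P := fun i =>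
    (pow_mem (mem_fixR.2 (by
      rw [← (commute_nil (r := S.r) hxu).eq]; exact hP g hg) : x ∈ fixR S.r P) i :)
  have hgP : Commute (S.r g) P := commute_r_nil (S.commute_orb_self hx hxN hg le_rfl)
  obtain ⟨k, hk0, hkp, hkj⟩ : ∃ k, 0 < k ∧ k < p ∧ k ≠ j := by
    by_cases h : j = 1
    · exact ⟨2, two_pos, hp3, by omega⟩
    · exact ⟨1, one_pos, by omega, Ne.symm h⟩
  set D := S.r g - S.r (cj x k g) with hD
  have hPD : P * D = 0 := by
    rw [hD, mul_sub, sub_eq_zero, cj, map_mul, map_mul, ← mul_assoc, ← mul_assoc, hPr',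
      ← hgP.eq, mul_assoc, hPr]
  have huD : S.r u * D = D := mem_fixL.2 hPD
  -- `D` is fixed by the whole conjugate of `K`
  have hKD : ∀ h ∈ S.K, S.r (cj x j h) * D = D := by
    let H : Subgroup G :=
      { carrier := {h | cj x j h ∈ fixL S.r D}
        one_mem' := by simp [cj, Subgroup.one_mem]
        mul_mem' := fun {a b} ha hb => by
          show cj x j (a * b) ∈ fixL S.r D
          rw [cj_mul]; exact mul_mem ha hb
        inv_mem' := fun {a} ha => by
          show cj x j a⁻¹ ∈ fixL S.r D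
          rw [cj_inv]; exact inv_mem ha }
    suffices hle : S.K ≤ H from fun h hh => hle hh
    refine (S.quasi g (Subgroup.le_normalizer hg) hnc).trans ((Subgroup.closure_le H).2 ?_)
    rintro y ⟨k', hk', rfl⟩
    have hh : k'⁻¹ ∈ S.K := inv_mem hk'
    set hj := cj x j k'⁻¹ with hhj
    have hcomm : Commute (S.r hj) D :=
      (((S.commute_cj hx hxN hj0 hjp hh hg).map S.r).symm).sub_right
        ((S.cj_commute hx hxN hjp hkp hkj.symm hh hg).map S.r)
    have hact : u * hj * u⁻¹ = cj x j (g * k'⁻¹ * g⁻¹) := by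
      have hxu' : Commute u (x ^ j) := (hxu.pow_left j).symm
      rw [← S.orb_act hx hxN hg hh, hhj, hu, cj_conj hxu.symm]
    have e : S.r hj * D = S.r (cj x j (g * k'⁻¹ * g⁻¹)) * D := by
      calc S.r hj * D = S.r u * (D * S.r hj) := by rw [← mul_assoc, huD, hcomm.eq]
        _ = S.r (u * hj) * D := by rw [← hcomm.eq, ← mul_assoc, map_mul]
        _ = S.r (cj x j (g * k'⁻¹ * g⁻¹) * u) * D := by
          rw [← hact, inv_mul_cancel_right]
        _ = S.r (cj x j (g * k'⁻¹ * g⁻¹)) * D := by rw [map_mul, mul_assoc, huD]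
    show S.r (cj x j (k' * g * k'⁻¹ * g⁻¹)) * D = D
    rw [show k' * g * k'⁻¹ * g⁻¹ = k' * (g * k'⁻¹ * g⁻¹) by group, cj_mul, map_mul, mul_assoc,
      ← e, hhj, cj_inv, ← mul_assoc, r_mul_inv, one_mul]
  -- vary `g` inside its class
  have hclass : ∀ m ∈ S.K, nil S.r (cj x j g') * (S.r (m * g * m⁻¹) - S.r (cj x k g)) = 0 := by
    intro m hm
    have c1 : Commute (S.r m) (S.r (cj x k g)) := (S.commute_cj hx hxN hk0 hkp hg hm).map S.r
    have c2 : Commute (S.r m) (nil S.r (cj x j g')) :=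
      commute_r_nil (S.commute_cj hx hxN hj0 hjp hg' hm)
    have h0 : nil S.r (cj x j g') * D = 0 := by
      rw [nil, sub_mul, hKD g' hg', one_mul, sub_self]
    have e : S.r (m * g * m⁻¹) - S.r (cj x k g) = S.r m * D * S.r m⁻¹ := by
      rw [hD, mul_sub, sub_mul, map_mul, map_mul, c1.eq, mul_assoc (S.r (cj x k g)), r_mul_inv,
        mul_one]
    rw [e, ← mul_assoc, ← mul_assoc, ← c2.eq, mul_assoc (S.r m), h0, mul_zero, zero_mul]
  rw [← S.nil_mul_nil_of_notMem hx hxN hg' hl hj0 hjp]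
  refine mem_fixR.1 (((S.quasi g (Subgroup.le_normalizer hg) hnc).trans
    ((Subgroup.closure_le (fixR S.r (nil S.r (cj x j g')))).2 ?_)) hl)
  rintro y ⟨m, hm, rfl⟩
  have h1 := hclass m hm
  have h2 := hclass 1 (one_mem _)
  simp only [one_mul, inv_one, mul_one] at h2
  rw [mul_sub, sub_eq_zero] at h1 h2
  show nil S.r (cj x j g') * S.r (m * g * m⁻¹ * g⁻¹) = nil S.r (cj x j g')
  rw [map_mul, ← mul_assoc, h1, ← h2, mul_assoc, r_mul_inv, mul_one]

include S in
/-- The odd case. -/
theorem false_of_odd (hp : p ≠ 2) : False := by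
  obtain ⟨a, ha, hak⟩ := S.exists_quad_not_kerA
  have hne : S.r a ≠ 1 := fun h => hak (S.mem_kerA.2 ⟨ha.1, h⟩)
  by_cases haN : a ∈ normalizer (S.K : Set G)
  · exact S.false_of_normalizing_odd hp ha haN hne
  · exact S.false_of_quadratic hp ha.1 haN (ha.2 a ha.1)

end Setup

end Cfsg.Agent.Lib.PGV
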