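import Cfsg.Agent.Lib.PGV.Basic

/-!
The product of the conjugates of an element of `K` under a cyclic group of order `p`
moving `K`, and what annihilation relations with it imply.
-/

set_option autoImplicit false

namespace Cfsg.Agent.Lib.PGV

open Subgroup
open scoped commutatorElement

variable {G V : Type*} [Group G] [AddCommGroup V] {p : ℕ} [Fact p.Prime] [Module (ZMod p) V]
variable {x g : G}

/-- The conjugate of `g` by `x ^ i`. -/
def cj (x : G) (i : ℕ) (g : G) : G := x ^ i * g * (x ^ i)⁻¹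

/-- The product of the first `n` conjugates of `g` under powers of `x`. -/
def orb (x g : G) : ℕ → G
  | 0 => 1
  | n + 1 => orb x g n * cj x n g

@[simp] theorem cj_zero (x g : G) : cj x 0 g = g := by simp [cj]

theorem cj_one_eq (x g : G) : cj x 1 g = x * g * x⁻¹ := by simp [cj]

theorem cj_mul (x : G) (i : ℕ) (g h : G) : cj x i (g * h) = cj x i g * cj x i h := by
  simp [cj, mul_assoc]

theorem cj_inv (x : G) (i : ℕ) (g : G) : cj x i g⁻¹ = (cj x i g)⁻¹ := by simp [cj, mul_assoc]

theorem cj_add (x : G) (i j : ℕ) (g : G) : cj x (i + j) g = x ^ i * cj x j g * (x ^ i)⁻¹ := by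
  simp [cj, pow_add, mul_assoc]

theorem cj_succ (x : G) (i : ℕ) (g : G) : cj x (i + 1) g = x * cj x i g * x⁻¹ := by
  rw [add_comm, cj_add, pow_one]

theorem cj_conj {b : G} (hb : Commute b x) (i : ℕ) (g : G) :
    cj x i (b * g * b⁻¹) = b * cj x i g * b⁻¹ := by
  have h1 : Commute b (x ^ i) := hb.pow_right i
  have h2 : Commute b⁻¹ (x ^ i)⁻¹ := (hb.pow_right i).inv_inv
  simp only [cj, mul_assoc]
  rw [← mul_assoc (x ^ i) b, ← h1.eq, h2.eq]
  simp [mul_assoc]

theorem orb_conj {b : G} (hb : Commute b x) (g : G) (n : ℕ) :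
    orb x (b * g * b⁻¹) n = b * orb x g n * b⁻¹ := by
  induction n with
  | zero => simp [orb]
  | succ n ih => simp only [orb, ih, cj_conj hb]; simp [mul_assoc]

theorem conj_orb (x g : G) (n : ℕ) : x * orb x g n * x⁻¹ = g⁻¹ * orb x g (n + 1) := by
  induction n with
  | zero => simp [orb]
  | succ n ih =>
    show x * (orb x g n * cj x n g) * x⁻¹ = g⁻¹ * (orb x g (n + 1) * cj x (n + 1) g)
    rw [cj_succ, ← mul_assoc g⁻¹, ← ih]
    simp [mul_assoc]

theorem charP_end (hV : Nontrivial V) : CharP (Module.End (ZMod p) V) p :=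
  charP_of_injective_algebraMap (algebraMap (ZMod p) (Module.End (ZMod p) V)).injective p

namespace Setup

variable (S : Setup p G V)

theorem mem_normalizer_of_pow {x : G} (hx : x ∈ S.A) {m : ℕ} (h0 : 0 < m) (hm : m < p)
    (h : x ^ m ∈ normalizer (S.K : Set G)) : x ∈ normalizer (S.K : Set G) := by
  have hco : Nat.gcd m p = 1 := (Nat.Coprime.symm
    ((Fact.out : p.Prime).coprime_iff_not_dvd.2 fun hd => absurd (Nat.le_of_dvd h0 hd) (by omega)))
  have e : x = x ^ ((1 : ℕ) : ℤ) := by simp
  rw [e, ← hco, Nat.gcd_eq_gcd_ab, zpow_add, zpow_mul, zpow_mul, zpow_natCast, zpow_natCast,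
    S.expo x hx, one_zpow, mul_one]
  exact zpow_mem h _

theorem pow_notMem {x : G} (hx : x ∈ S.A) (hxN : x ∉ normalizer (S.K : Set G)) {m : ℕ}
    (h0 : 0 < m) (hm : m < p) : x ^ m ∉ normalizer (S.K : Set G) :=
  fun h => hxN (S.mem_normalizer_of_pow hx h0 hm h)

theorem cj_p {x : G} (hx : x ∈ S.A) (g : G) : cj x p g = g := by simp [cj, S.expo x hx]

theorem cj_commute {x : G} (hx : x ∈ S.A) (hxN : x ∉ normalizer (S.K : Set G)) {i j : ℕ}
    (hi : i < p) (hj : j < p) (hij : i ≠ j) {g l : G} (hg : g ∈ S.K) (hl : l ∈ S.K) :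
    Commute (cj x i g) (cj x j l) := by
  wlog h : i < j generalizing i j g l
  · exact (this hj hi hij.symm hl hg (by omega)).symm
  obtain ⟨m, rfl⟩ := Nat.exists_eq_add_of_lt h
  rw [show i + m + 1 = i + (m + 1) by omega, cj_add]
  have := S.sep (x ^ (m + 1)) (pow_mem hx _) (S.pow_notMem hx hxN (by omega) (by omega)) g hg l hl
  exact this.map (MulAut.conj (x ^ i)).toMonoidHom

theorem commute_cj {x : G} (hx : x ∈ S.A) (hxN : x ∉ normalizer (S.K : Set G)) {i : ℕ}
    (h0 : 0 < i) (hi : i < p) {g l : G} (hg : g ∈ S.K) (hl : l ∈ S.K) :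
    Commute l (cj x i g) := by
  have := S.cj_commute hx hxN (i := 0) (Fact.out : p.Prime).pos hi (by omega) hl hg
  rwa [cj_zero] at this

variable {x : G} (hx : x ∈ S.A) (hxN : x ∉ normalizer (S.K : Set G))
include hx hxN

theorem cj_commute_orb {g l : G} (hg : g ∈ S.K) (hl : l ∈ S.K) :
    ∀ {n i : ℕ}, n ≤ i → i < p → Commute (cj x i g) (orb x l n) := by
  intro n
  induction n with
  | zero => intro i _ _; exact Commute.one_right _
  | succ n ih =>
    intro i hn hi
    exact (ih (by omega) hi).mul_right (S.cj_commute hx hxN hi (by omega) (by omega) hg hl)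

theorem orb_mul {g l : G} (hg : g ∈ S.K) (hl : l ∈ S.K) :
    ∀ {n : ℕ}, n ≤ p → orb x (g * l) n = orb x g n * orb x l n := by
  intro n
  induction n with
  | zero => intro _; simp [orb]
  | succ n ih =>
    intro hn
    have hc := S.cj_commute_orb hx hxN hg hl (n := n) le_rfl (by omega)
    simp only [orb, ih (by omega), cj_mul, mul_assoc]
    rw [← mul_assoc (orb x l n), ← hc.eq, mul_assoc]

omit hx hxN in
theorem orb_one (n : ℕ) : orb x 1 n = 1 := by
  induction n with
  | zero => rfl
  | succ n ih => simp [orb, ih, cj]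

theorem orb_inv {g : G} (hg : g ∈ S.K) : orb x g⁻¹ p = (orb x g p)⁻¹ := by
  refine eq_inv_of_mul_eq_one_left ?_
  rw [← S.orb_mul hx hxN (inv_mem hg) hg le_rfl, inv_mul_cancel, orb_one]

theorem commute_orb_self {g : G} (hg : g ∈ S.K) : ∀ {n : ℕ}, n ≤ p → Commute g (orb x g n) := by
  intro n
  induction n with
  | zero => intro _; exact Commute.one_right _
  | succ n ih =>
    intro hn
    refine (ih (by omega)).mul_right ?_
    rcases Nat.eq_zero_or_pos n with rfl | h0
    · rw [cj_zero]; exact Commute.refl g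
    · exact S.commute_cj hx hxN h0 (by omega) hg hg

theorem commute_x_orb {g : G} (hg : g ∈ S.K) : Commute x (orb x g p) := by
  have h := conj_orb x g p
  simp only [orb, S.cj_p hx] at h
  have hc := S.commute_orb_self hx hxN hg (n := p) le_rfl
  rw [← hc.eq, inv_mul_cancel_left] at h
  exact mul_inv_eq_iff_eq_mul.1 h

/-- The tail of the orbit product lies in any subgroup containing the nontrivial conjugates. -/
theorem tail_mem (H : Subgroup G) {g : G} (hH : ∀ i, 0 < i → i < p → cj x i g ∈ H) :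
    g⁻¹ * orb x g p ∈ H := by
  have key : ∀ n, n + 1 ≤ p → g⁻¹ * orb x g (n + 1) ∈ H := by
    intro n
    induction n with
    | zero => intro _; simp [orb]
    | succ n ih =>
      intro hn
      show g⁻¹ * (orb x g (n + 1) * cj x (n + 1) g) ∈ H
      rw [← mul_assoc]
      exact mul_mem (ih (by omega)) (hH _ (by omega) (by omega))
  have hp := (Fact.out : p.Prime).pos
  obtain ⟨n, hn⟩ : ∃ n, p = n + 1 := ⟨p - 1, by omega⟩
  rw [hn]; exact key n hn.ge

theorem commute_tail {g l : G} (hg : g ∈ S.K) (hl : l ∈ S.K) :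
    Commute l (g⁻¹ * orb x g p) := by
  have h : g⁻¹ * orb x g p ∈ centralizer ({l} : Set G) :=
    S.tail_mem hx hxN _ fun i h0 hi =>
      mem_centralizer_singleton_iff.2 (S.commute_cj hx hxN h0 hi hg hl).eq.symm
  exact (mem_centralizer_singleton_iff.1 h).symm

/-- The orbit product acts on `K` as its first factor. -/
theorem orb_act {g l : G} (hg : g ∈ S.K) (hl : l ∈ S.K) :
    orb x g p * l * (orb x g p)⁻¹ = g * l * g⁻¹ := by
  have hc := S.commute_tail hx hxN hg hl
  have e : orb x g p = g * (g⁻¹ * orb x g p) := (mul_inv_cancel_left g _).symm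
  rw [e]
  generalize g⁻¹ * orb x g p = t at hc
  rw [mul_inv_rev, mul_assoc g t l, ← hc.eq]
  simp [mul_assoc]

/-- An element annihilated by `x` and normalising `K` transfers to all orbit products. -/
theorem orb_annihilate {b : G} (hb : b ∈ S.A) (hbN : b ∈ normalizer (S.K : Set G))
    (hnc : ∃ k ∈ S.K, ¬ Commute b k) (h : nil S.r x * nil S.r b = 0) :
    ∀ g ∈ S.K, nil S.r x * nil S.r (orb x g p) = 0 := by
  intro g hg
  have hbx : Commute b x := S.comm b hb x hx
  let H : Subgroup G :=
    { carrier := {k | k ∈ S.K ∧ orb x k p ∈ fixR S.r (nil S.r x)}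
      one_mem' := ⟨one_mem _, by rw [orb_one]; exact one_mem _⟩
      mul_mem' := fun {k l} hk hl => ⟨mul_mem hk.1 hl.1, by
        rw [S.orb_mul hx hxN hk.1 hl.1 le_rfl]; exact mul_mem hk.2 hl.2⟩
      inv_mem' := fun {k} hk => ⟨inv_mem hk.1, by
        rw [S.orb_inv hx hxN hk.1]; exact inv_mem hk.2⟩ }
  suffices hle : S.K ≤ H from mem_fixR.1 (hle hg).2
  refine (S.quasi b hbN hnc).trans ((Subgroup.closure_le H).2 ?_)
  rintro y ⟨k, hk, rfl⟩
  have hb' : b ∈ fixR S.r (nil S.r x) := mem_fixR.2 h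
  have hbk : b * k⁻¹ * b⁻¹ ∈ S.K := (Subgroup.mem_normalizer_iff.1 hbN _).1 (inv_mem hk)
  have e : k * b * k⁻¹ * b⁻¹ = k * (b * k⁻¹ * b⁻¹) := by simp [mul_assoc]
  refine ⟨e ▸ mul_mem hk hbk, ?_⟩
  rw [e, S.orb_mul hx hxN hk hbk le_rfl, orb_conj hbx, S.orb_inv hx hxN hk, ← mul_assoc,
    ← mul_assoc]
  refine mul_mem ?_ (inv_mem hb')
  have hu := S.commute_x_orb hx hxN hk
  show nil S.r x * S.r (orb x k p * b * (orb x k p)⁻¹) = nil S.r x
  rw [map_mul, map_mul, ← mul_assoc, ← mul_assoc, (commute_nil_r hu).eq,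
    mul_assoc (S.r (orb x k p)), (show nil S.r x * S.r b = nil S.r x from hb'),
    ← (commute_nil_r hu).eq, mul_assoc, r_mul_inv, mul_one]

/-- The final contradiction: `x` annihilates the orbit products and different conjugates of `K`
annihilate each other. -/
theorem false_of_cross (hP : ∀ g ∈ S.K, nil S.r x * nil S.r (orb x g p) = 0)
    (hcross : ∀ l ∈ S.K, ∀ g ∈ S.K, ∀ i, 0 < i → i < p →
      nil S.r l * nil S.r (cj x i g) = 0) : False := by
  have hR : ∀ l ∈ S.K, ∀ g ∈ S.K,
      nil S.r l * nil S.r (orb x g p) = nil S.r l * nil S.r g := by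
    intro l hl g hg
    have ht : g⁻¹ * orb x g p ∈ fixR S.r (nil S.r l) :=
      S.tail_mem hx hxN _ fun i h0 hi => mem_fixR.2 (hcross l hl g hg i h0 hi)
    have hc := S.commute_orb_self hx hxN hg (n := p) le_rfl
    have e : orb x g p = (g⁻¹ * orb x g p) * g := by
      rw [mul_assoc, ← hc.eq, inv_mul_cancel_left]
    have h1 : nil S.r l * S.r (orb x g p) = nil S.r l * S.r g := by
      rw [e, map_mul, ← mul_assoc, (show nil S.r l * S.r _ = nil S.r l from ht)]
    simp only [nil, mul_sub] at h1 ⊢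
    rw [h1]
  have hL : ∀ l ∈ S.K, ∀ g ∈ S.K,
      nil S.r (orb x g p) * nil S.r l = nil S.r g * nil S.r l := by
    intro l hl g hg
    have ht : g⁻¹ * orb x g p ∈ fixL S.r (nil S.r l) :=
      S.tail_mem hx hxN _ fun i h0 hi => mem_fixL.2 (by
        rw [← (commute_nil (S.commute_cj hx hxN h0 hi hg hl)).eq]
        exact hcross l hl g hg i h0 hi)
    have h1 : S.r (orb x g p) * nil S.r l = S.r g * nil S.r l := by
      rw [← mul_inv_cancel_left g (orb x g p), map_mul, mul_assoc,
        (show S.r _ * nil S.r l = nil S.r l from ht)]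
    simp only [nil, sub_mul] at h1 ⊢
    rw [h1]
  have h1 : ∀ g ∈ S.K, nil S.r g * nil S.r x = 0 := by
    refine S.triv_left fun l hl g hg => ?_
    rw [← hR l hl g hg, mul_assoc, ← (commute_nil (S.commute_x_orb hx hxN hg)).eq, hP g hg,
      mul_zero]
  have h2 : ∀ g ∈ S.K, nil S.r x * nil S.r g = 0 := by
    refine S.triv_right fun l hl g hg => ?_
    rw [mul_assoc, ← hL g hg l hl, ← mul_assoc, hP l hl, zero_mul]
  refine S.false_of_nil_mul fun l hl g hg => ?_
  have hc : Commute (S.r x) (S.r g) := by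
    show S.r x * S.r g = S.r g * S.r x
    rw [r_eq_add (r := S.r) x, r_eq_add (r := S.r) g]
    simp [mul_add, add_mul, h1 g hg, h2 g hg]
    abel
  have hg' : S.r (cj x 1 g) = S.r g := by
    rw [cj_one_eq, map_mul, map_mul, hc.eq, mul_assoc, r_mul_inv, mul_one]
  have h3 := hcross l hl g hg 1 one_pos (Fact.out : p.Prime).one_lt
  rwa [nil, nil, hg'] at h3

omit hx hxN

section Finite

variable [Finite V]

include S in
omit [Finite V] in
theorem nontrivial_space : Nontrivial V := by
  by_contra h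
  rw [not_nontrivial_iff_subsingleton] at h
  obtain ⟨k, -, hne⟩ := S.nontriv
  exact hne (LinearMap.ext fun v => Subsingleton.elim _ _)

omit [Finite V] in
theorem nil_pow {a : G} (ha : a ∈ S.A) (hV : Nontrivial V) : nil S.r a ^ p = 0 := by
  have := charP_end (p := p) hV
  rw [nil, sub_pow_char_of_commute p (Commute.one_right _), ← map_pow, S.expo a ha, map_one,
    one_pow, sub_self]

/-- An element of `A` centralising `K` acts trivially. -/
theorem r_eq_one_of_centralizes {c : G} (hc : c ∈ S.A) (h : ∀ k ∈ S.K, Commute c k) :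
    S.r c = 1 := by
  rw [← nil_eq_zero]
  by_contra hne
  have hV := S.nontrivial_space
  have hi := S.injective_of_commute (S.commG_eq_top (φ := nil S.r c)
    (fun k hk => commute_nil_r (h k hk))
    (fun a ha => commute_nil_r (S.comm c hc a ha))) hne
  obtain ⟨v, hv⟩ := exists_ne (0 : V)
  refine hv ((Module.End.coe_pow (nil S.r c) p ▸ hi.iterate p) ?_)
  rw [S.nil_pow hc hV, LinearMap.zero_apply, LinearMap.zero_apply]

theorem exists_not_commute {b : G} (hb : b ∈ S.A) (hne : S.r b ≠ 1) :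
    ∃ k ∈ S.K, ¬ Commute b k := by
  by_contra h
  push Not at h
  exact hne (S.r_eq_one_of_centralizes hb h)

omit [Finite V] in
/-- An element of `A` moving `K` acts nontrivially. -/
theorem r_ne_one_of_notMem {y : G} (hy : y ∈ S.A) (hyN : y ∉ normalizer (S.K : Set G)) :
    S.r y ≠ 1 := by
  intro h
  refine S.false_of_commute fun g hg l hl => ?_
  have h1 := (S.sep y hy hyN g hg l hl).map S.r
  rwa [map_mul, map_mul, h, one_mul, ← mul_one (S.r y⁻¹), ← h, r_inv_mul, mul_one] at h1

end Finite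

/-- There is a noncentral element of `K` of order prime to `p`. -/
theorem exists_pPrime_noncentral [Finite G] :
    ∃ g ∈ S.K, p.Coprime (orderOf g) ∧ ∃ k ∈ S.K, ¬ Commute g k := by
  by_contra h
  push Not at h
  have hperf : Group.IsPerfect S.K := Subgroup.isPerfect_iff.mpr S.perfect
  have hpg : IsPGroup p (S.K ⧸ Subgroup.center S.K) := by
    intro q
    obtain ⟨g, rfl⟩ := QuotientGroup.mk'_surjective _ q
    obtain ⟨k, m, hm, hg⟩ := Nat.exists_eq_pow_mul_and_not_dvd
      (orderOf_pos g).ne' p (Fact.out : p.Prime).ne_one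
    refine ⟨k, ?_⟩
    rw [← map_pow, QuotientGroup.mk'_apply, QuotientGroup.eq_one_iff, Subgroup.mem_center_iff]
    intro l
    have hord : orderOf ((g : G) ^ p ^ k) = m := by
      rw [orderOf_pow, Subgroup.orderOf_coe, hg, Nat.gcd_mul_right_left,
        Nat.mul_div_cancel_left _ (pow_pos (Fact.out : p.Prime).pos k)]
    have := h _ (pow_mem g.2 (p ^ k)) (hord ▸ (Fact.out : p.Prime).coprime_iff_not_dvd.2 hm) l l.2
    exact Subtype.ext this.eq.symm
  have : Group.IsPerfect (S.K ⧸ Subgroup.center S.K) :=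
    Group.IsPerfect.ofSurjective (QuotientGroup.mk'_surjective _)
  rcases subsingleton_or_nontrivial (S.K ⧸ Subgroup.center S.K) with hs | hn
  · refine S.false_of_commute fun g hg l hl => ?_
    have h1 := (QuotientGroup.eq_one_iff (N := Subgroup.center S.K) (⟨l, hl⟩ : S.K)).1 (Subsingleton.elim _ _)
    have h2 := congrArg Subtype.val (Subgroup.mem_center_iff.1 h1 ⟨g, hg⟩)
    exact (show Commute g l from h2).map S.r
  · have := hpg.isNilpotent
    exact Group.IsPerfect.not_isSolvable (S.K ⧸ Subgroup.center S.K) inferInstance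

end Setup

end Cfsg.Agent.Lib.PGV
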