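import Cfsg.Agent.Lib.PGV.Orbit
import Cfsg.Agent.Lib.PGroup.Quadratic

/-!
Linear form of Timmesfeld's replacement: the quadratically acting subgroup of a best offender
is bigger than its kernel.
-/

set_option autoImplicit false

namespace Cfsg.Agent.Lib.PGV

open Subgroup

variable {G V : Type*} [Group G] [AddCommGroup V] {p : ℕ} [Fact p.Prime] [Module (ZMod p) V]

/-- The elements fixing `W` pointwise. -/
def fixer (r : G →* Module.End (ZMod p) V) (W : Submodule (ZMod p) V) : Subgroup G where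
  carrier := {g | ∀ w ∈ W, r g w = w}
  one_mem' := fun w _ => by simp
  mul_mem' {a b} (ha hb) := fun w hw => by
    rw [map_mul, Module.End.mul_apply, hb w hw, ha w hw]
  inv_mem' {a} (ha) := fun w hw => by
    have := congrArg (r a⁻¹) (ha w hw)
    rwa [← Module.End.mul_apply, r_inv_mul, Module.End.one_apply, eq_comm] at this

theorem fixer_sup_le (r : G →* Module.End (ZMod p) V) (W W' : Submodule (ZMod p) V) :
    fixer r W ⊓ fixer r W' ≤ fixer r (W ⊔ W') := by
  rintro g ⟨h, h'⟩ w hw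
  obtain ⟨a, ha, b, hb, rfl⟩ := Submodule.mem_sup.1 hw
  rw [map_add, h a ha, h' b hb]

theorem card_sup_mul_card_inf [Finite V] (W W' : Submodule (ZMod p) V) :
    Nat.card ↥(W ⊔ W') * Nat.card ↥(W ⊓ W') = Nat.card W * Nat.card W' := by
  rw [Module.natCard_eq_pow_finrank (K := ZMod p) (V := ↥(W ⊔ W')),
    Module.natCard_eq_pow_finrank (K := ZMod p) (V := ↥(W ⊓ W')),
    Module.natCard_eq_pow_finrank (K := ZMod p) (V := ↥W),
    Module.natCard_eq_pow_finrank (K := ZMod p) (V := ↥W')]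
  rw [← pow_add, ← pow_add, Submodule.finrank_sup_add_finrank_inf_eq]

namespace Setup

variable (S : Setup p G V)

/-- The quadratically acting subgroup of `A`. -/
def quad : Subgroup G where
  carrier := {a | a ∈ S.A ∧ ∀ c ∈ S.A, nil S.r a * nil S.r c = 0}
  one_mem' := ⟨one_mem _, fun c _ => by simp⟩
  mul_mem' {a b} (ha hb) := ⟨mul_mem ha.1 hb.1, fun c hc => by
    rw [nil_mul, add_mul, add_mul, mul_assoc, hb.2 c hc, ha.2 c hc, mul_zero, add_zero, add_zero]⟩
  inv_mem' {a} (ha) := ⟨inv_mem ha.1, fun c hc => by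
    have e : nil S.r a⁻¹ = -(S.r a⁻¹ * nil S.r a) := by
      simp only [nil, mul_sub, r_inv_mul, mul_one, neg_sub]
    rw [e, neg_mul, mul_assoc, ha.2 c hc, mul_zero, neg_zero]⟩

/-- The kernel of the action of `A`. -/
def kerA : Subgroup G := S.A ⊓ S.r.ker

theorem mem_kerA {a : G} : a ∈ S.kerA ↔ a ∈ S.A ∧ S.r a = 1 := Iff.rfl

/-- The span of the commutators of a set of vectors with `A`. -/
def comm' (s : Set V) : Submodule (ZMod p) V :=
  Submodule.span (ZMod p) {w | ∃ a ∈ S.A, ∃ u ∈ s, nil S.r a u = w}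

theorem nil_comm_apply {a b : G} (ha : a ∈ S.A) (hb : b ∈ S.A) (v : V) :
    nil S.r a (nil S.r b v) = nil S.r b (nil S.r a v) :=
  LinearMap.congr_fun (commute_nil (r := S.r) (S.comm a ha b hb)).eq v

variable [Finite G] [Finite V]

theorem card_le_single (u : V) :
    Nat.card S.A * Nat.card (fixed S.r S.A) ≤
      Nat.card ↥(S.A ⊓ fixer S.r (S.comm' {u})) *
        Nat.card ↥(S.comm' {u} ⊔ fixed S.r S.A) := by
  set R := S.comm' {u} with hR
  set C := fixed S.r S.A with hC
  set X := S.A ⊓ fixer S.r R with hX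
  have hmem : ∀ (a : S.A) (c : C), nil S.r (a : G) u + c ∈ R ⊔ C := fun a c =>
    Submodule.add_mem_sup (Submodule.subset_span ⟨a, a.2, u, rfl, rfl⟩) c.2
  let f : (S.A ⧸ X.subgroupOf S.A) × C → ↥(R ⊔ C) :=
    fun q => ⟨nil S.r ((q.1.out : S.A) : G) u + q.2, hmem _ _⟩
  have hf : Function.Injective f := by
    rintro ⟨q₁, c₁⟩ ⟨q₂, c₂⟩ h
    have h' : nil S.r ((q₁.out : S.A) : G) u + c₁ = nil S.r ((q₂.out : S.A) : G) u + c₂ :=
      congrArg Subtype.val h
    set a := ((q₁.out : S.A) : G) with ha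
    set b := ((q₂.out : S.A) : G) with hb
    have haA : a ∈ S.A := (q₁.out).2
    have hbA : b ∈ S.A := (q₂.out).2
    have hd : nil S.r a u - nil S.r b u ∈ C := by
      rw [show nil S.r a u - nil S.r b u = (c₂ : V) - c₁ by
        rw [sub_eq_sub_iff_add_eq_add, h', add_comm]]
      exact sub_mem c₂.2 c₁.2
    have hq : q₁ = q₂ := by
      rw [← QuotientGroup.out_eq' q₁, ← QuotientGroup.out_eq' q₂, QuotientGroup.eq, mem_subgroupOf]
      change a⁻¹ * b ∈ X
      refine mem_inf.2 ⟨mul_mem (inv_mem haA) hbA, fun w hw => ?_⟩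
      have hab : S.r b w = S.r a w := by
        induction hw using Submodule.span_induction with
        | mem w hw =>
          obtain ⟨d, hd', u', hu', rfl⟩ := hw
          rw [Set.mem_singleton_iff.1 hu']
          have h0 : nil S.r d (nil S.r a u - nil S.r b u) = 0 := by
            rw [nil_apply, hd d hd', sub_self]
          rw [map_sub, sub_eq_zero, S.nil_comm_apply hd' haA, S.nil_comm_apply hd' hbA, nil_apply a,
            nil_apply b, sub_left_inj] at h0
          exact h0.symm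
        | zero => simp
        | add x y _ _ hx hy => rw [map_add, map_add, hx, hy]
        | smul c x _ hx => rw [map_smul, map_smul, hx]
      rw [map_mul, Module.End.mul_apply, hab, ← Module.End.mul_apply, r_inv_mul,
        Module.End.one_apply]
    subst hq
    exact Prod.ext rfl (Subtype.ext (add_left_cancel h'))
  have hcard := Nat.card_le_card_of_injective f hf
  rw [Nat.card_prod] at hcard
  calc Nat.card S.A * Nat.card C
      = Nat.card X * (Nat.card (S.A ⧸ X.subgroupOf S.A) * Nat.card C) := by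
        have e := Subgroup.card_eq_card_quotient_mul_card_subgroup (X.subgroupOf S.A)
        rw [Nat.card_congr (Subgroup.subgroupOfEquivOfLe (inf_le_left : X ≤ S.A)).toEquiv] at e
        rw [e]; ring
    _ ≤ Nat.card X * Nat.card ↥(R ⊔ C) := Nat.mul_le_mul_left _ hcard

theorem card_le (s : Set V) :
    Nat.card S.A * Nat.card (fixed S.r S.A) ≤
      Nat.card ↥(S.A ⊓ fixer S.r (S.comm' s)) *
        Nat.card ↥(S.comm' s ⊔ fixed S.r S.A) := by
  have hs : s.Finite := Set.toFinite s
  induction s, hs using Set.Finite.induction_on with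
  | empty =>
    have e : S.comm' ∅ = ⊥ := by simp [comm']
    rw [e, bot_sup_eq, inf_eq_left.2 (show S.A ≤ fixer S.r ⊥ from fun a _ w hw => by
      rw [(Submodule.mem_bot _).1 hw, map_zero])]
  | @insert u s _ _ ih =>
    set C := fixed S.r S.A with hC
    have hsplit : S.comm' (insert u s) = S.comm' {u} ⊔ S.comm' s := by
      rw [comm', comm', comm', ← Submodule.span_union]
      congr 1
      ext w
      simp only [Set.mem_ofPred_eq, Set.mem_union, Set.mem_insert_iff, Set.mem_singleton_iff]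
      constructor
      · rintro ⟨a, ha, v, rfl | hv, rfl⟩
        exacts [Or.inl ⟨a, ha, _, rfl, rfl⟩, Or.inr ⟨a, ha, v, hv, rfl⟩]
      · rintro (⟨a, ha, v, hv, rfl⟩ | ⟨a, ha, v, hv, rfl⟩)
        exacts [⟨a, ha, v, Or.inl hv, rfl⟩, ⟨a, ha, v, Or.inr hv, rfl⟩]
    set R₁ := S.comm' {u} with hR₁
    set R₂ := S.comm' s with hR₂
    set X₁ := S.A ⊓ fixer S.r R₁ with hX₁
    set X₂ := S.A ⊓ fixer S.r R₂ with hX₂
    set W₁ := R₁ ⊔ C with hW₁
    set W₂ := R₂ ⊔ C with hW₂
    have hXle : X₁ ⊓ X₂ ≤ S.A ⊓ fixer S.r (R₁ ⊔ R₂) :=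
      le_inf (inf_le_left.trans inf_le_left)
        ((inf_le_inf inf_le_right inf_le_right).trans (fixer_sup_le _ _ _))
    have hfix : ∀ R : Submodule (ZMod p) V, ∀ g ∈ S.A ⊓ fixer S.r R, ∀ w ∈ R ⊔ C,
        S.r g w = w := by
      intro R g hg w hw
      obtain ⟨x, hx, y, hy, rfl⟩ := Submodule.mem_sup.1 hw
      rw [map_add, (mem_inf.1 hg).2 x hx, hy g (mem_inf.1 hg).1]
    have hWinf : W₁ ⊓ W₂ ≤ fixed S.r (X₁ ⊔ X₂) := by
      rintro w ⟨h1, h2⟩ g hg
      have : X₁ ⊔ X₂ ≤ fixer S.r (Submodule.span (ZMod p) {w}) := by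
        refine sup_le (fun a ha v hv => ?_) (fun a ha v hv => ?_) <;>
          obtain ⟨c, rfl⟩ := Submodule.mem_span_singleton.1 hv
        · rw [map_smul, hfix R₁ a ha w h1]
        · rw [map_smul, hfix R₂ a ha w h2]
      exact this hg w (Submodule.mem_span_singleton_self w)
    have hb := S.offender _ (sup_le inf_le_left inf_le_left : X₁ ⊔ X₂ ≤ S.A)
    have hb' : Nat.card ↥(X₁ ⊔ X₂) * Nat.card ↥(W₁ ⊓ W₂) ≤ Nat.card S.A * Nat.card C :=
      (Nat.mul_le_mul_left _ (Nat.card_le_card_of_injective _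
        (Submodule.inclusion_injective hWinf))).trans hb
    have hX := Quadratic.card_mul_card_le X₁ X₂
    have hW := (card_sup_mul_card_inf W₁ W₂).ge
    have hm : 0 < Nat.card S.A * Nat.card C := Nat.mul_pos Nat.card_pos Nat.card_pos
    have single := S.card_le_single u
    rw [hsplit, show R₁ ⊔ R₂ ⊔ C = W₁ ⊔ W₂ by rw [hW₁, hW₂]; exact sup_sup_distrib_right ..]
    refine le_trans ?_ (Nat.mul_le_mul_right _ (Nat.card_le_card_of_injective _
      (Subgroup.inclusion_injective hXle)))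
    refine Nat.le_of_mul_le_mul_right ?_ hm
    calc Nat.card S.A * Nat.card C * (Nat.card S.A * Nat.card C)
        ≤ Nat.card X₁ * Nat.card W₁ * (Nat.card X₂ * Nat.card W₂) := Nat.mul_le_mul single ih
      _ = Nat.card X₁ * Nat.card X₂ * (Nat.card W₁ * Nat.card W₂) := by ring
      _ ≤ Nat.card ↥(X₁ ⊔ X₂) * Nat.card ↥(X₁ ⊓ X₂) *
            (Nat.card ↥(W₁ ⊔ W₂) * Nat.card ↥(W₁ ⊓ W₂)) := Nat.mul_le_mul hX hW
      _ = Nat.card ↥(X₁ ⊓ X₂) * Nat.card ↥(W₁ ⊔ W₂) *
            (Nat.card ↥(X₁ ⊔ X₂) * Nat.card ↥(W₁ ⊓ W₂)) := by ring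
      _ ≤ Nat.card ↥(X₁ ⊓ X₂) * Nat.card ↥(W₁ ⊔ W₂) * (Nat.card S.A * Nat.card C) :=
          Nat.mul_le_mul_left _ hb'

/-- `[V,A] + C_V(A)` is proper. -/
theorem comm'_sup_fixed_ne_top :
    S.comm' Set.univ ⊔ fixed S.r S.A ≠ ⊤ := by
  intro htop
  have hV := S.nontrivial_space
  set M := S.comm' Set.univ with hM
  have hmemM : ∀ a ∈ S.A, ∀ v, nil S.r a v ∈ M := fun a ha v =>
    Submodule.subset_span ⟨a, ha, v, trivial, rfl⟩
  have key : ∀ s : Set G, s ⊆ (S.A : Set G) → ∀ N : Submodule (ZMod p) V,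
      (∀ a ∈ S.A, ∀ v ∈ N, nil S.r a v ∈ N) →
      N ≤ ⨆ a ∈ s, N.map (nil S.r a) → N = ⊥ := by
    intro s
    have hs : s.Finite := Set.toFinite s
    induction s, hs using Set.Finite.induction_on with
    | empty => intro _ N _ hN; simpa using hN
    | @insert b s _ _ ih =>
      intro hsub N hinv hN
      have hb : b ∈ S.A := hsub (Set.mem_insert b s)
      have hsA : s ⊆ (S.A : Set G) := fun x hx => hsub (Set.mem_insert_of_mem b hx)
      refine ih hsA N hinv ?_
      set T := ⨆ a ∈ s, N.map (nil S.r a) with hT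
      rw [iSup_insert] at hN
      have hTb : T.map (nil S.r b) ≤ T := by
        rw [hT]
        simp only [Submodule.map_iSup]
        refine iSup₂_mono fun a ha => ?_
        rintro w ⟨v, ⟨u, hu, rfl⟩, rfl⟩
        exact ⟨nil S.r b u, hinv b hb u hu, S.nil_comm_apply (hsA ha) hb u⟩
      have hstep : ∀ k : ℕ, N ≤ N.map (nil S.r b ^ k) ⊔ T := by
        intro k
        induction k with
        | zero => rw [pow_zero, Module.End.one_eq_id, Submodule.map_id]; exact le_sup_left
        | succ k ihk =>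
          refine hN.trans (sup_le ?_ le_sup_right)
          refine (Submodule.map_mono ihk).trans ?_
          rw [Submodule.map_sup, pow_succ', Module.End.mul_eq_comp, Submodule.map_comp]
          exact sup_le_sup_left hTb _
      have := hstep p
      rwa [S.nil_pow hb hV, Submodule.map_zero, bot_sup_eq] at this
  have hMbot : M = ⊥ := by
    refine key S.A subset_rfl M (fun a ha v _ => hmemM a ha v) ?_
    refine Submodule.span_le.2 ?_
    rintro w ⟨a, ha, u, -, rfl⟩
    have hu : u ∈ M ⊔ fixed S.r S.A := htop ▸ Submodule.mem_top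
    obtain ⟨m, hm, c, hc, rfl⟩ := Submodule.mem_sup.1 hu
    rw [map_add, nil_apply a c, hc a ha, sub_self, add_zero]
    exact Submodule.mem_iSup_of_mem a (Submodule.mem_iSup_of_mem ha ⟨m, hm, rfl⟩)
  refine S.r_ne_one_of_notMem S.x₀_mem S.x₀_notMem (LinearMap.ext fun v => ?_)
  have := hmemM S.x₀ S.x₀_mem v
  rw [hMbot, Submodule.mem_bot, nil_apply, sub_eq_zero] at this
  exact this

/-- The inequality for the quadratic subgroup. -/
theorem card_le_quad :
    Nat.card S.kerA * Nat.card V ≤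
      Nat.card S.quad * Nat.card ↥(S.comm' Set.univ ⊔ fixed S.r S.A) := by
  have h0 := S.offender S.kerA inf_le_left
  have e : fixed S.r S.kerA = ⊤ := eq_top_iff.2 fun v _ a ha => by
    rw [(S.mem_kerA.1 ha).2, Module.End.one_apply]
  rw [e, Nat.card_congr (Submodule.topEquiv (R := ZMod p) (M := V)).toEquiv] at h0
  refine h0.trans ((S.card_le Set.univ).trans (Nat.mul_le_mul_right _
    (Nat.card_le_card_of_injective _ (Subgroup.inclusion_injective ?_))))
  intro a ha
  refine ⟨(mem_inf.1 ha).1, fun c hc => LinearMap.ext fun v => ?_⟩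
  rw [Module.End.mul_apply, nil_apply a, LinearMap.zero_apply, sub_eq_zero]
  exact (mem_inf.1 ha).2 _ (Submodule.subset_span ⟨c, hc, v, trivial, rfl⟩)

theorem comm'_sup_fixed_le_ker {a : G} (ha : a ∈ S.quad) :
    S.comm' Set.univ ⊔ fixed S.r S.A ≤ LinearMap.ker (nil S.r a) := by
  refine sup_le (Submodule.span_le.2 ?_) fun v hv => ?_
  · rintro w ⟨c, hc, u, -, rfl⟩
    exact LinearMap.congr_fun (ha.2 c hc) u
  · rw [LinearMap.mem_ker, nil_apply, hv a ha.1, sub_self]

/-- There is a quadratic element outside the kernel. -/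
theorem exists_quad_not_kerA : ∃ a ∈ S.quad, a ∉ S.kerA := by
  by_contra h
  push Not at h
  have h1 := S.card_le_quad
  have h2 : Nat.card S.quad ≤ Nat.card S.kerA :=
    Nat.card_le_card_of_injective _ (Subgroup.inclusion_injective h)
  have h3 : Nat.card ↥(S.comm' Set.univ ⊔ fixed S.r S.A) < Nat.card V := by
    have := Submodule.finrank_lt S.comm'_sup_fixed_ne_top
    rw [Module.natCard_eq_pow_finrank (K := ZMod p),
      Module.natCard_eq_pow_finrank (K := ZMod p) (V := V)]
    exact Nat.pow_lt_pow_right (by rw [Nat.card_zmod]; exact (Fact.out : p.Prime).one_lt) this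
  have h4 := Nat.mul_lt_mul_of_le_of_lt h2 h3 Nat.card_pos
  omega

end Setup

end Cfsg.Agent.Lib.PGV
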