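import Cfsg.Agent.Lib.PGV.Replacement
import Cfsg.Agent.Lib.Burnside.Paqb

/-!
Characteristic two: the trace `g + g⁻¹`, and pairs of elements of `A` moving `K` differently.
-/

set_option autoImplicit false

namespace Cfsg.Agent.Lib.PGV

open Subgroup
open scoped commutatorElement

variable {G V : Type*} [Group G] [AddCommGroup V] [Module (ZMod 2) V]

theorem end_add_self (φ : Module.End (ZMod 2) V) : φ + φ = 0 := by
  ext v
  have h : ((1 : ZMod 2) + 1) • φ v = 0 := by
    rw [show (1 : ZMod 2) + 1 = 0 from rfl, zero_smul]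
  rwa [add_smul, one_smul] at h

theorem end_neg_eq (φ : Module.End (ZMod 2) V) : -φ = φ :=
  (eq_neg_of_add_eq_zero_left (end_add_self φ)).symm

theorem end_sub_eq (φ ψ : Module.End (ZMod 2) V) : φ - ψ = φ + ψ := by
  rw [sub_eq_add_neg, end_neg_eq]

theorem end_eq_of_add_eq_zero {φ ψ : Module.End (ZMod 2) V} (h : φ + ψ = 0) : φ = ψ :=
  (eq_neg_of_add_eq_zero_left h).trans (end_neg_eq ψ)

namespace Setup

variable (S : Setup 2 G V)

/-- The trace of an element. -/
def tr (g : G) : Module.End (ZMod 2) V := S.r g + S.r g⁻¹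

theorem mul_self_A {a : G} (ha : a ∈ S.A) : a * a = 1 := by rw [← pow_two]; exact S.expo a ha

theorem inv_eq_A {a : G} (ha : a ∈ S.A) : a⁻¹ = a := inv_eq_of_mul_eq_one_left (S.mul_self_A ha)

theorem nil_sq {a : G} (ha : a ∈ S.A) : nil S.r a * nil S.r a = 0 := by
  have h := congrArg (nil S.r) (S.mul_self_A ha)
  rw [nil_mul, nil_one, add_assoc, end_add_self, add_zero] at h
  exact h

theorem r_A_eq {a : G} (_ha : a ∈ S.A) : S.r a = 1 + nil S.r a := r_eq_add a

theorem tr_conj (a g : G) : S.r a * S.tr g * S.r a⁻¹ = S.tr (a * g * a⁻¹) := by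
  simp only [tr, mul_add, add_mul, ← map_mul, mul_inv_rev, inv_inv, mul_assoc]

theorem commute_tr {φ : Module.End (ZMod 2) V} {g : G} (h : Commute φ (S.r g))
    (h' : Commute φ (S.r g⁻¹)) : Commute φ (S.tr g) := h.add_right h'

theorem commute_r_tr {l g : G} (h : Commute l g) : Commute (S.r l) (S.tr g) :=
  S.commute_tr (h.map S.r) (h.inv_right.map S.r)

/-- The trace lemma. -/
theorem tr_eq_of_annihilate {x u : G} (hx : x ∈ S.A) (hc : Commute u (x * u * x⁻¹))
    (h : nil S.r x * nil S.r (u * (x * u * x⁻¹)) = 0) : S.tr u = S.tr (x * u * x⁻¹) := by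
  set u' := x * u * x⁻¹ with hu'
  have hxi := S.inv_eq_A hx
  have hu'' : x * u' * x⁻¹ = u := by
    calc x * u' * x⁻¹ = (x * x) * u * (x * x)⁻¹ := by rw [hu']; simp [mul_assoc]
      _ = u := by rw [S.mul_self_A hx, one_mul, inv_one, mul_one]
  have hxc : Commute x (u * u') := by
    show x * (u * u') = u * u' * x
    calc x * (u * u') = (x * u * x⁻¹) * (x * u' * x⁻¹) * x := by simp [mul_assoc]
      _ = u * u' * x := by rw [hu'', ← hu', hc.eq]
  set N := nil S.r x with hN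
  set P := nil S.r (u * u') with hP
  have hPN : P * N = 0 := by rw [← (commute_nil (r := S.r) hxc).eq]; exact h
  have hgP : Commute (S.r u) P := commute_r_nil ((Commute.refl u).mul_right hc)
  have hg' : S.r u' = S.r u + (N * S.r u + S.r u * N + N * S.r u * N) := by
    rw [hu', map_mul, map_mul, hxi, S.r_A_eq hx]; noncomm_ring
  have h1 : (S.r u' - S.r u) * P = 0 := by
    rw [hg', add_sub_cancel_left]
    simp only [add_mul, mul_assoc, h, mul_zero, hgP.eq]
    rw [← mul_assoc N P, h, zero_mul]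
    simp
  have hinv : S.r (u * u') * (S.r u⁻¹ * S.r u'⁻¹) = 1 := by
    rw [← map_mul, ← map_mul, hc.eq]; simp [mul_assoc]
  have h2 : (S.r u' - S.r u) * (1 - S.r u⁻¹ * S.r u'⁻¹) = 0 := by
    have : 1 - S.r u⁻¹ * S.r u'⁻¹ = P * (S.r u⁻¹ * S.r u'⁻¹) := by
      rw [hP, nil, sub_mul, hinv, one_mul]
    rw [this, ← mul_assoc, h1, zero_mul]
  have e1 : S.r u' * (S.r u⁻¹ * S.r u'⁻¹) = S.r u⁻¹ := by
    rw [← mul_assoc, ((hc.symm.inv_right).map S.r).eq, mul_assoc, r_mul_inv, mul_one]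
  have e2 : S.r u * (S.r u⁻¹ * S.r u'⁻¹) = S.r u'⁻¹ := by
    rw [← mul_assoc, r_mul_inv, one_mul]
  rw [sub_mul, mul_sub, mul_sub, mul_one, mul_one, e1, e2, sub_eq_zero] at h2
  show S.r u + S.r u⁻¹ = S.r u' + S.r u'⁻¹
  rw [eq_comm, ← sub_eq_zero, ← sub_eq_zero_of_eq h2]
  abel

/-- All traces scalar gives a contradiction. -/
theorem false_of_tr [Finite G] (h : ∀ g ∈ S.K, S.tr g = 0 ∨ S.tr g = 1) : False := by
  set f := S.r.toHomUnits with hf
  set I := S.K.map f with hI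
  have : Finite I := Finite.of_surjective _ (f.subgroupMap_surjective S.K)
  have hord : ∀ u : I, orderOf u ∣ 6 := by
    rintro ⟨u, g, hg, rfl⟩
    rw [orderOf_dvd_iff_pow_eq_one]
    refine Subtype.ext (Units.ext ?_)
    show S.r g ^ 6 = 1
    have hgi : S.r g * S.r g⁻¹ = 1 := r_mul_inv g
    rcases h g hg with h0 | h1
    · have : S.r g * S.r g = 1 := by
        nth_rw 2 [end_eq_of_add_eq_zero (φ := S.r g) h0]
        exact hgi
      calc S.r g ^ 6 = (S.r g * S.r g) ^ 3 := by rw [← pow_two, ← pow_mul]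
        _ = 1 := by rw [this, one_pow]
    · have h2 : S.r g * S.r g + 1 = S.r g := by
        have := congrArg (S.r g * ·) h1
        rwa [tr, mul_add, hgi, mul_one] at this
      have h3 : S.r g * S.r g = S.r g + 1 := by
        rw [← end_sub_eq, eq_sub_iff_add_eq]; exact h2
      have h4 : S.r g * S.r g * S.r g = 1 := by
        rw [h3, add_mul, one_mul, h3, add_assoc, add_comm (1 : Module.End (ZMod 2) V),
          ← add_assoc, end_add_self, zero_add]
      calc S.r g ^ 6 = (S.r g * S.r g * S.r g) ^ 2 := by rw [← pow_two, ← pow_succ, ← pow_mul]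
        _ = 1 := by rw [h4, one_pow]
  obtain ⟨a, m, hm, hcard⟩ := Nat.exists_eq_pow_mul_and_not_dvd
    (Nat.card_pos (α := I)).ne' 2 (by norm_num)
  have hm0 : m ≠ 0 := fun h => hm (h ▸ dvd_zero 2)
  have h3 : ∀ {d : ℕ}, d.Prime → d ∣ m → d = 3 := by
    intro d hd hdm
    have := Fact.mk hd
    obtain ⟨u, hu⟩ := exists_prime_orderOf_dvd_card' (G := I) d (hcard ▸ hdm.mul_left _)
    have h6 : d ∣ 2 * 3 := hu ▸ hord u
    rcases hd.dvd_mul.1 h6 with h | h
    · rw [(Nat.prime_dvd_prime_iff_eq hd Nat.prime_two).1 h] at hdm; exact absurd hdm hm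
    · exact (Nat.prime_dvd_prime_iff_eq hd Nat.prime_three).1 h
  rw [Nat.eq_prime_pow_of_unique_prime_dvd hm0 h3] at hcard
  have hsolv := Burnside.isSolvable_of_card_eq_prime_pow_mul Nat.prime_two Nat.prime_three hcard
  have : Group.IsPerfect S.K := Subgroup.isPerfect_iff.mpr S.perfect
  have : Group.IsPerfect I := Group.IsPerfect.ofSurjective (f.subgroupMap_surjective S.K)
  have : Nontrivial I := by
    rw [Subgroup.nontrivial_iff_ne_bot]
    intro hb
    obtain ⟨k, hk, hne⟩ := S.nontriv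
    have : f k = 1 := Subgroup.mem_bot.1 (hb ▸ Subgroup.mem_map_of_mem f hk)
    exact hne (congrArg Units.val this)
  exact Group.IsPerfect.not_isSolvable I hsolv

theorem orb_two (x g : G) : orb x g 2 = g * (x * g * x⁻¹) := by simp [orb, cj]

theorem pair_commute {y : G} (hy : y ∈ S.A) (hyN : y ∉ normalizer (S.K : Set G)) {g l : G}
    (hg : g ∈ S.K) (hl : l ∈ S.K) : Commute g (y * l * y⁻¹) := S.sep y hy hyN g hg l hl

theorem pair_commute_two {x y : G} (hx : x ∈ S.A) (hy : y ∈ S.A)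
    (hxyN : x * y ∉ normalizer (S.K : Set G)) {g l : G} (hg : g ∈ S.K) (hl : l ∈ S.K) :
    Commute (x * g * x⁻¹) (y * l * y⁻¹) := by
  have h := (S.sep (x * y) (mul_mem hx hy) hxyN g hg l hl).map (MulAut.conj x).toMonoidHom
  have e : x * (x * y * l * (x * y)⁻¹) * x⁻¹ = y * l * y⁻¹ := by
    have hxi := S.inv_eq_A hx
    rw [mul_inv_rev, hxi]
    calc x * (x * y * l * (y⁻¹ * x)) * x = (x * x) * (y * l * y⁻¹) * (x * x) := by
          simp [mul_assoc]
      _ = y * l * y⁻¹ := by rw [S.mul_self_A hx, one_mul, mul_one]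
  rw [← e]
  exact h

/-- Two elements of `A` moving `K` differently and annihilating each other. -/
theorem pair_cross {x y : G} (hx : x ∈ S.A) (hy : y ∈ S.A)
    (hxN : x ∉ normalizer (S.K : Set G)) (hyN : y ∉ normalizer (S.K : Set G))
    (hxyN : x * y ∉ normalizer (S.K : Set G)) (h : nil S.r x * nil S.r y = 0) :
    (∀ g ∈ S.K, nil S.r x * nil S.r (orb x g 2) = 0) ∧
      ∀ c ∈ S.K, ∀ m ∈ S.K, nil S.r c * nil S.r (y * m * y⁻¹) = 0 := by
  have hxy : Commute x y := S.comm x hx y hy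
  set F := fixR S.r (nil S.r x) with hF
  have hyF : y ∈ F := mem_fixR.2 h
  set q := fun g => y * orb x g 2 * y⁻¹ with hq
  -- the four conjugates commute pairwise
  have c1 : ∀ g ∈ S.K, ∀ l ∈ S.K, Commute g (x * l * x⁻¹) := fun g hg l hl =>
    S.pair_commute hx hxN hg hl
  have c2 : ∀ g ∈ S.K, ∀ l ∈ S.K, Commute g (y * l * y⁻¹) := fun g hg l hl =>
    S.pair_commute hy hyN hg hl
  have c3 : ∀ g ∈ S.K, ∀ l ∈ S.K, Commute g (x * (y * l * y⁻¹) * x⁻¹) := fun g hg l hl => by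
    have := S.pair_commute (mul_mem hx hy) hxyN hg hl
    simpa [mul_assoc] using this
  have c4 : ∀ g ∈ S.K, ∀ l ∈ S.K, Commute (x * g * x⁻¹) (y * l * y⁻¹) := fun g hg l hl =>
    S.pair_commute_two hx hy hxyN hg hl
  have c5 : ∀ g ∈ S.K, ∀ l ∈ S.K, Commute (x * g * x⁻¹) (x * (y * l * y⁻¹) * x⁻¹) :=
    fun g hg l hl => (c2 g hg l hl).map (MulAut.conj x).toMonoidHom
  have c6 : ∀ g ∈ S.K, ∀ l ∈ S.K, Commute (y * g * y⁻¹) (x * (y * l * y⁻¹) * x⁻¹) :=
    fun g hg l hl => by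
      have := (c1 g hg l hl).map (MulAut.conj y).toMonoidHom
      have e : y * (x * l * x⁻¹) * y⁻¹ = x * (y * l * y⁻¹) * x⁻¹ := by
        calc y * (x * l * x⁻¹) * y⁻¹ = (y * x) * l * (y * x)⁻¹ := by simp [mul_assoc]
          _ = (x * y) * l * (x * y)⁻¹ := by rw [hxy.eq]
          _ = x * (y * l * y⁻¹) * x⁻¹ := by simp [mul_assoc]
      rw [← e]; exact this
  have hqπ : ∀ g ∈ S.K, ∀ l ∈ S.K, Commute (orb x g 2) (q l) := by
    intro g hg l hl
    have e : q l = (y * l * y⁻¹) * (x * (y * l * y⁻¹) * x⁻¹) := by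
      show y * orb x l 2 * y⁻¹ = _
      rw [← orb_conj hxy.symm, orb_two]
    rw [orb_two, e]
    exact ((c2 g hg l hl).mul_right (c3 g hg l hl)).mul_left
      ((c4 g hg l hl).mul_right (c5 g hg l hl))
  have hπmul : ∀ g ∈ S.K, ∀ l ∈ S.K, orb x (g * l) 2 = orb x g 2 * orb x l 2 := fun g hg l hl =>
    S.orb_mul hx hxN hg hl le_rfl
  have hqmul : ∀ g ∈ S.K, ∀ l ∈ S.K, q (g * l) = q g * q l := fun g hg l hl => by
    simp only [hq, hπmul g hg l hl]; simp [mul_assoc]
  have hqinv : ∀ g ∈ S.K, q g⁻¹ = (q g)⁻¹ := fun g hg => by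
    simp only [hq, S.orb_inv hx hxN hg]; simp [mul_assoc]
  have hs : ∀ g ∈ S.K, orb x g 2 * (q g)⁻¹ ∈ F := by
    intro g hg
    have hu := S.commute_x_orb hx hxN hg
    have h1 : orb x g 2 * y * (orb x g 2)⁻¹ ∈ F := by
      show nil S.r x * S.r (orb x g 2 * y * (orb x g 2)⁻¹) = nil S.r x
      rw [map_mul, map_mul, ← mul_assoc, ← mul_assoc, (commute_nil_r hu).eq,
        mul_assoc (S.r (orb x g 2)), (show nil S.r x * S.r y = nil S.r x from hyF),
        ← (commute_nil_r hu).eq, mul_assoc, r_mul_inv, mul_one]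
    have e : orb x g 2 * (q g)⁻¹ = orb x g 2 * y * (orb x g 2)⁻¹ * y⁻¹ := by
      simp [hq, mul_assoc]
    rw [e]; exact mul_mem h1 (inv_mem hyF)
  have hqK : ∀ m ∈ S.K, q m ∈ F := by
    let H : Subgroup G :=
      { carrier := {k | k ∈ S.K ∧ q k ∈ F}
        one_mem' := ⟨one_mem _, by simp [hq, orb_one]⟩
        mul_mem' := fun {k l} hk hl => ⟨mul_mem hk.1 hl.1, by
          rw [hqmul k hk.1 l hl.1]; exact mul_mem hk.2 hl.2⟩
        inv_mem' := fun {k} hk => ⟨inv_mem hk.1, by rw [hqinv k hk.1]; exact inv_mem hk.2⟩ }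
    suffices hle : S.K ≤ H from fun m hm => (hle hm).2
    refine S.perfect_le H fun g hg l hl => ⟨?_, ?_⟩
    · rw [commutatorElement_def]
      exact mul_mem (mul_mem (mul_mem hg hl) (inv_mem hg)) (inv_mem hl)
    · have := mul_mem (mul_mem (inv_mem (hs (g * l) (mul_mem hg hl))) (hs g hg)) (hs l hl)
      convert this using 1
      rw [commutatorElement_def, hqmul _ (mul_mem (mul_mem hg hl) (inv_mem hg)) _ (inv_mem hl),
        hqmul _ (mul_mem hg hl) _ (inv_mem hg), hqinv g hg, hqinv l hl, hπmul g hg l hl]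
      simp only [mul_inv_rev, inv_inv, mul_assoc, inv_mul_cancel_left]
      rw [← mul_assoc (q g)⁻¹ (orb x l 2), ← ((hqπ l hl g hg).inv_right).eq,
        hqmul g hg l hl]
      simp [mul_assoc]
  have hπK : ∀ m ∈ S.K, orb x m 2 ∈ F := fun m hm => by
    have := mul_mem (hs m hm) (hqK m hm)
    rwa [inv_mul_cancel_right] at this
  refine ⟨fun g hg => mem_fixR.1 (hπK g hg), fun c hc => ?_⟩
  have key : ∀ g ∈ S.K, ∀ h ∈ S.K, ∀ l ∈ S.K,
      S.r (y * h * y⁻¹) ∈ Set.univ ∧ Commute (S.r l) (S.tr (g * (y * h * y⁻¹))) ∧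
        Commute (S.r l) (S.tr g) := by
    intro g hg h hh l hl
    refine ⟨trivial, ?_, ?_⟩
    · set u := g * (y * h * y⁻¹) with hu
      have hu' : x * u * x⁻¹ = (x * g * x⁻¹) * (x * (y * h * y⁻¹) * x⁻¹) := by
        simp [hu, mul_assoc]
      rw [S.tr_eq_of_annihilate hx (u := u)]
      · rw [hu']
        exact S.commute_r_tr ((c1 l hl g hg).mul_right (c3 l hl h hh))
      · rw [hu']
        exact ((c1 g hg g hg).mul_right (c3 g hg h hh)).mul_left
          (((c4 g hg h hh).symm).mul_right (c6 h hh h hh))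
      · refine mem_fixR.1 ?_
        have e : u * (x * u * x⁻¹) = orb x g 2 * q h := by
          rw [hu', orb_two, show q h = y * orb x h 2 * y⁻¹ from rfl, ← orb_conj hxy.symm, orb_two,
            hu, mul_assoc g, ← mul_assoc (y * h * y⁻¹), ← (c4 g hg h hh).eq]
          simp [mul_assoc]
        rw [e]; exact mul_mem (hπK g hg) (hqK h hh)
    · rw [S.tr_eq_of_annihilate hx (u := g) (c1 g hg g hg)
        (by rw [← orb_two]; exact mem_fixR.1 (hπK g hg))]
      exact S.commute_r_tr (c1 l hl g hg)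
  have hD : ∀ h ∈ S.K, ∀ c ∈ S.K,
      nil S.r c * (S.r (y * h * y⁻¹)⁻¹ - S.r (y * h * y⁻¹)) = 0 := by
    intro h hh c hc
    set u := y * h * y⁻¹ with hu
    set D := S.r u⁻¹ - S.r u with hD
    refine mem_fixL.1 (S.perfect_le (fixL S.r D) (fun a ha b hb => ?_) hc)
    -- apply to `g = b` and `l = a⁻¹`
    have hl : a⁻¹ ∈ S.K := inv_mem ha
    obtain ⟨-, k1, k2⟩ := key b hb h hh a⁻¹ hl
    have hbu : Commute b u := c2 b hb h hh
    have hlu : Commute a⁻¹ u := c2 _ hl h hh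
    have k3 : Commute (S.r a⁻¹) (S.r b⁻¹ * D) := by
      have e : S.r b⁻¹ * D = S.tr (b * u) - S.tr b * S.r u := by
        rw [tr, tr, hD]
        clear_value u
        rw [mul_inv_rev, ← (hbu.inv_inv).eq, map_mul, map_mul, mul_sub, add_mul]
        abel
      rw [e]
      exact k1.sub_right (k2.mul_right (hlu.map S.r))
    have hDl : Commute (S.r a⁻¹) D := ((hlu.inv_right).map S.r).sub_right (hlu.map S.r)
    show S.r ⁅a, b⁆ * D = D
    have e2 : S.r (a⁻¹ * b⁻¹) * D = S.r (b⁻¹ * a⁻¹) * D := by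
      rw [map_mul, map_mul, mul_assoc, k3.eq, mul_assoc, ← hDl.eq, ← mul_assoc]
    rw [show ⁅a, b⁆ = (b⁻¹ * a⁻¹)⁻¹ * (a⁻¹ * b⁻¹) by simp [commutatorElement_def, mul_assoc],
      map_mul, mul_assoc, e2, ← mul_assoc, r_inv_mul, one_mul]
  have hsq : ∀ k ∈ S.K, y * (k * k) * y⁻¹ ∈ fixR S.r (nil S.r c) := by
    intro k hk
    have e := hD k hk c hc
    rw [mul_sub, sub_eq_zero] at e
    show nil S.r c * S.r (y * (k * k) * y⁻¹) = nil S.r c
    rw [show y * (k * k) * y⁻¹ = (y * k * y⁻¹) * (y * k * y⁻¹) by simp [mul_assoc], map_mul,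
      ← mul_assoc, ← e, mul_assoc, r_inv_mul, mul_one]
  intro m hm
  refine mem_fixR.1 (S.perfect_le ((fixR S.r (nil S.r c)).comap (MulAut.conj y).toMonoidHom)
    (fun g hg l hl => ?_) hm)
  show y * ⁅g, l⁆ * y⁻¹ ∈ fixR S.r (nil S.r c)
  have := mul_mem (mul_mem (hsq g hg) (hsq (g⁻¹ * l) (mul_mem (inv_mem hg) hl)))
    (hsq l⁻¹ (inv_mem hl))
  convert this using 1
  simp [commutatorElement_def, mul_assoc]

/-- No two elements of `A` moving `K` differently annihilate each other. -/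
theorem false_of_pair {x y : G} (hx : x ∈ S.A) (hy : y ∈ S.A)
    (hxN : x ∉ normalizer (S.K : Set G)) (hyN : y ∉ normalizer (S.K : Set G))
    (hxyN : x * y ∉ normalizer (S.K : Set G)) (h : nil S.r x * nil S.r y = 0) : False := by
  have hP := (S.pair_cross hx hy hxN hyN hxyN h).1
  have hyx : y * x ∉ normalizer (S.K : Set G) := by rwa [S.comm y hy x hx]
  have hcross := (S.pair_cross hy hx hyN hxN hyx (by
    rw [(commute_nil (r := S.r) (S.comm y hy x hx)).eq]; exact h)).2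
  refine S.false_of_cross hx hxN hP fun l hl g hg i h0 hi => ?_
  obtain rfl : i = 1 := by omega
  rw [cj_one_eq]
  exact hcross l hl g hg

end Setup

end Cfsg.Agent.Lib.PGV
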