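import Cfsg.Agent.Lib.PGV.Two

/-!
Characteristic two, a quadratic element of `A` normalising `K`.
-/

set_option autoImplicit false

namespace Cfsg.Agent.Lib.PGV

open Subgroup
open scoped commutatorElement

variable {G V : Type*} [Group G] [AddCommGroup V] [Module (ZMod 2) V]

/-- The product that arises from two conjugating involutions. -/
theorem sandwich {e δ γ η : Module.End (ZMod 2) V} (hee : e * e = 0) (hδ : δ * δ = 0)
    (heγ : e * γ = 0) (hγe : γ * e = 0) (heη : e * η = 0) (hηe : η * e = 0) (hγη : γ * η = 0) :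
    e * (1 + δ) * (1 + γ) * (1 + δ) * (1 + η) * ((1 + δ) * e) =
      e * δ * e + e * δ * γ * δ * η * δ * e := by
  have s1 : e * (1 + δ) * (1 + γ) * (1 + δ) = e + e * δ * γ + e * δ * γ * δ := by
    have h : e * (1 + δ) * (1 + γ) * (1 + δ) =
        e + e * δ * γ + e * δ * γ * δ + (e * δ + e * δ) := by
      simp only [mul_add, add_mul, mul_one, mul_assoc, hδ, heγ, mul_zero, add_zero,
        ← mul_assoc e γ, zero_mul]
      abel
    rw [h, end_add_self, add_zero]
  rw [s1]
  have h : (e + e * δ * γ + e * δ * γ * δ) * (1 + η) * ((1 + δ) * e) =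
      e * δ * e + e * δ * γ * δ * η * δ * e + (e * δ * γ * δ * e + e * δ * γ * δ * e) := by
    simp only [mul_add, add_mul, mul_one, one_mul, mul_assoc, heη, hγη, hee, hηe, hγe, mul_zero,
      add_zero, zero_mul, zero_add, ← mul_assoc δ δ, hδ, ← mul_assoc e η, ← mul_assoc γ η]
    abel
  rw [h, end_add_self, add_zero]

namespace Setup

variable (S : Setup 2 G V)

/-- The endomorphisms commuting with `G`. -/
def endG : Subring (Module.End (ZMod 2) V) := Subring.centralizer (Set.range S.r)

/-- The centre of the ring of endomorphisms commuting with `G`. -/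
def endC : Subring (Module.End (ZMod 2) V) :=
  S.endG ⊓ Subring.centralizer (S.endG : Set (Module.End (ZMod 2) V))

theorem mem_endG {φ : Module.End (ZMod 2) V} : φ ∈ S.endG ↔ ∀ g, Commute φ (S.r g) := by
  rw [endG, Subring.mem_centralizer_iff]
  exact ⟨fun h g => (h _ ⟨g, rfl⟩).symm, by rintro h _ ⟨g, rfl⟩; exact (h g).eq.symm⟩

theorem endC_commute_r {φ : Module.End (ZMod 2) V} (h : φ ∈ S.endC) (g : G) : Commute φ (S.r g) :=
  S.mem_endG.1 h.1 g

theorem endC_commute_nil {φ : Module.End (ZMod 2) V} (h : φ ∈ S.endC) (g : G) :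
    Commute φ (nil S.r g) := (S.endC_commute_r h g).sub_right (Commute.one_right _)

theorem endC_commute {φ ψ : Module.End (ZMod 2) V} (h : φ ∈ S.endC) (h' : ψ ∈ S.endC) :
    Commute φ ψ := ((Subring.mem_centralizer_iff.1 h.2) ψ h'.1).symm

theorem tr_mem_endC {g : G} (h : ∀ l : G, Commute (S.tr g) (S.r l)) : S.tr g ∈ S.endC :=
  ⟨S.mem_endG.2 h, Subring.mem_centralizer_iff.2 fun ψ hψ =>
    (S.commute_tr (S.mem_endG.1 hψ g) (S.mem_endG.1 hψ g⁻¹)).eq⟩

theorem commute_conj {a b : G} (h : Commute (S.r a) (S.r b)) (l : G) :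
    Commute (S.r (l * a * l⁻¹)) (S.r (l * b * l⁻¹)) := by
  show _ * _ = _ * _
  have e : ∀ a b : G, S.r (l * a * l⁻¹) * S.r (l * b * l⁻¹) = S.r l * (S.r a * S.r b) * S.r l⁻¹ :=
    fun a b => by
      simp only [← map_mul]; congr 1; simp [mul_assoc]
  rw [e, e, h.eq]

variable [Finite V]

theorem endC_inv {φ : Module.End (ZMod 2) V} (h : φ ∈ S.endC) (hne : φ ≠ 0) :
    ∃ ψ ∈ S.endC, φ * ψ = 1 ∧ ψ * φ = 1 := by
  have : Finite (Module.End (ZMod 2) V) := Finite.of_injective _ DFunLike.coe_injective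
  have hi := S.injective_of_commute (S.endC_commute_r h) hne
  let f : S.endC → S.endC := fun ψ => ⟨φ * ψ, mul_mem h ψ.2⟩
  have hf : Function.Injective f := fun a b hab => Subtype.ext (LinearMap.ext fun v => hi (
    LinearMap.congr_fun (congrArg Subtype.val hab) v))
  obtain ⟨ψ, hψ⟩ := Finite.injective_iff_surjective.1 hf ⟨1, one_mem _⟩
  have e : φ * ψ = 1 := congrArg Subtype.val hψ
  exact ⟨ψ, ψ.2, e, by rw [← (S.endC_commute h ψ.2).eq]; exact e⟩

omit [Finite V] in
theorem inv_conj {b : G} (hb : b ∈ S.A) (k : G) : (k * b * k⁻¹)⁻¹ = k * b * k⁻¹ := by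
  simp [mul_assoc, S.inv_eq_A hb]

omit [Finite V] in
theorem conj_mul_mem {b : G} (hb : b ∈ S.A) (hbN : b ∈ normalizer (S.K : Set G)) {k : G}
    (hk : k ∈ S.K) : k * b * k⁻¹ * b ∈ S.K := by
  have h := mul_mem hk ((Subgroup.mem_normalizer_iff.1 hbN _).1 (inv_mem hk))
  rw [show k * b * k⁻¹ * b = k * (b * k⁻¹ * b⁻¹) by rw [S.inv_eq_A hb]; simp [mul_assoc]]
  exact h

omit [Finite V] in
/-- The trace of `[k,b]` is `eδ + δe`. -/
theorem tr_commutator {b : G} (hb : b ∈ S.A) (k : G) :
    S.tr (k * b * k⁻¹ * b) = nil S.r b * nil S.r (k * b * k⁻¹) +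
      nil S.r (k * b * k⁻¹) * nil S.r b := by
  have hi : (k * b * k⁻¹ * b)⁻¹ = b * (k * b * k⁻¹) := by
    rw [mul_inv_rev, S.inv_conj hb, S.inv_eq_A hb]
  rw [tr, hi]
  generalize k * b * k⁻¹ = d
  rw [map_mul, map_mul, r_eq_add (r := S.r) b, r_eq_add (r := S.r) d]
  have : ∀ δ e : Module.End (ZMod 2) V, (1 + δ) * (1 + e) + (1 + e) * (1 + δ) =
      e * δ + δ * e + ((1 + δ + e) + (1 + δ + e)) := fun δ e => by noncomm_ring
  rw [this, end_add_self, add_zero]

/-- For `b` normalising `K` nontrivially some trace of a commutator is nonzero. -/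
theorem exists_tr_ne_zero {b : G} (hb : b ∈ S.A) (hbN : b ∈ normalizer (S.K : Set G))
    (hne : S.r b ≠ 1) : ∃ k ∈ S.K, S.tr (k * b * k⁻¹ * b) ≠ 0 := by
  by_contra h
  push Not at h
  have h1 : ∀ k ∈ S.K, Commute (S.r (k * b * k⁻¹)) (S.r b) := by
    intro k hk
    have e := end_eq_of_add_eq_zero (show S.r (k * b * k⁻¹ * b) + S.r (k * b * k⁻¹ * b)⁻¹ = 0 from
      h k hk)
    rw [mul_inv_rev, S.inv_conj hb, S.inv_eq_A hb, map_mul _ (k * b * k⁻¹) b,
      map_mul _ b (k * b * k⁻¹)] at e
    exact e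
  have h2 : ∀ k ∈ S.K, ∀ l ∈ S.K, Commute (S.r (k * b * k⁻¹)) (S.r (l * b * l⁻¹)) := by
    intro k hk l hl
    have := S.commute_conj (h1 _ (mul_mem (inv_mem hl) hk)) l
    rw [show l * (l⁻¹ * k * b * (l⁻¹ * k)⁻¹) * l⁻¹ = k * b * k⁻¹ by simp [mul_assoc]] at this
    exact this
  have h3 : ∀ k ∈ S.K, S.K ≤ commG S.r (S.r (k * b * k⁻¹)) := by
    intro k hk
    refine (S.quasi b hbN (S.exists_not_commute hb hne)).trans ((Subgroup.closure_le _).2 ?_)
    rintro y ⟨l, hl, rfl⟩
    refine mul_mem ?_ (inv_mem ?_)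
    · exact h2 k hk l hl
    · exact h1 k hk
  refine S.false_of_commute fun g hg m hm => ?_
  refine (show S.K ≤ commG S.r (S.r g) from
    (S.quasi b hbN (S.exists_not_commute hb hne)).trans ((Subgroup.closure_le _).2 ?_)) hm
  rintro y ⟨l, hl, rfl⟩
  have h4 : ∀ l ∈ S.K, Commute (S.r g) (S.r (l * b * l⁻¹)) := fun l hl => (h3 l hl hg).symm
  refine mul_mem (h4 l hl) (inv_mem ?_)
  have := h4 1 (one_mem _)
  rw [one_mul, inv_one, mul_one] at this
  exact this

/-- The traces lie in the centre of the endomorphism ring. -/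
theorem tr_mem {b : G} (hb : b ∈ S.quad) (hbN : b ∈ normalizer (S.K : Set G)) (hne : S.r b ≠ 1)
    {g : G} (hg : g ∈ S.K) : S.tr g ∈ S.endC := by
  refine S.tr_mem_endC fun l => ?_
  have key : ∀ y ∈ S.A, y ∉ normalizer (S.K : Set G) →
      S.tr g = S.tr (y * g * y⁻¹) := by
    intro y hy hyN
    have h0 : nil S.r y * nil S.r b = 0 := by
      rw [(commute_nil (r := S.r) (S.comm y hy b hb.1)).eq]; exact hb.2 y hy
    have h1 := S.orb_annihilate hy hyN hb.1 hbN (S.exists_not_commute hb.1 hne) h0 g hg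
    rw [orb_two] at h1
    exact S.tr_eq_of_annihilate hy (S.pair_commute hy hyN hg hg) h1
  have hA : ∀ y ∈ S.A, y ∉ normalizer (S.K : Set G) → Commute (S.tr g) (S.r y) := by
    intro y hy hyN
    show S.tr g * S.r y = S.r y * S.tr g
    have e := (S.tr_conj y g).trans (key y hy hyN).symm
    conv_lhs => rw [← e]
    rw [mul_assoc, r_inv_mul, mul_one]
  refine S.commG_eq_top (fun k hk => ?_) (fun a ha => ?_) l
  · rw [key _ S.x₀_mem S.x₀_notMem]
    exact (S.commute_r_tr (S.pair_commute S.x₀_mem S.x₀_notMem hk hg)).symm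
  · by_cases haN : a ∈ normalizer (S.K : Set G)
    · have h1 : S.x₀ * a ∉ normalizer (S.K : Set G) := fun h => S.x₀_notMem (by
        have := mul_mem h (inv_mem haN)
        rwa [mul_inv_cancel_right] at this)
      have h2 := (hA _ S.x₀_mem S.x₀_notMem).mul_right (hA _ (mul_mem S.x₀_mem ha) h1)
      rwa [← map_mul, ← mul_assoc, S.mul_self_A S.x₀_mem, one_mul] at h2
    · exact hA a ha haN

/-- The kernel of such an element is its image. -/
theorem ker_nil_le_range {b : G} (hb : b ∈ S.quad) (hbN : b ∈ normalizer (S.K : Set G))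
    (hne : S.r b ≠ 1) {v : V} (hv : nil S.r b v = 0) : ∃ u, v = nil S.r b u := by
  obtain ⟨k, hk, hτ⟩ := S.exists_tr_ne_zero hb.1 hbN hne
  have hmem := S.tr_mem hb hbN hne (S.conj_mul_mem hb.1 hbN hk)
  obtain ⟨σ, hσ, -, h1⟩ := S.endC_inv hmem hτ
  refine ⟨σ (nil S.r (k * b * k⁻¹) v), ?_⟩
  have e := LinearMap.congr_fun h1 v
  rw [Module.End.mul_apply, Module.End.one_apply, S.tr_commutator hb.1, LinearMap.add_apply,
    Module.End.mul_apply, Module.End.mul_apply, hv, map_zero, add_zero] at e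
  exact e.symm.trans (LinearMap.congr_fun (S.endC_commute_nil hσ b).eq _)

variable [Finite G]

/-- No quadratic element of `A` normalises `K` nontrivially. -/
theorem false_of_normalizing_two {b : G} (hb : b ∈ S.quad) (hbN : b ∈ normalizer (S.K : Set G))
    (hne : S.r b ≠ 1) : False := by
  set e := nil S.r b with hedef
  set W := LinearMap.ker e with hW
  have hee : e * e = 0 := hb.2 b hb.1
  have hWA : ∀ c ∈ S.A, ∀ v ∈ W, nil S.r c v = 0 := by
    intro c hc v hv
    obtain ⟨u, rfl⟩ := S.ker_nil_le_range hb hbN hne (LinearMap.mem_ker.1 hv)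
    rw [S.nil_comm_apply hc hb.1]
    exact LinearMap.congr_fun (hb.2 c hc) u
  have hquad : ∀ a ∈ S.A, a ∈ S.quad := fun a ha => ⟨ha, fun c hc => LinearMap.ext fun v =>
    hWA a ha _ (LinearMap.mem_ker.2 (LinearMap.congr_fun (hb.2 c hc) v))⟩
  have hq : ∀ a ∈ S.A, ∀ c ∈ S.A, nil S.r a * nil S.r c = 0 := fun a ha c hc =>
    (hquad a ha).2 c hc
  have hfix : fixed S.r S.A = W := by
    ext v
    refine ⟨fun hv => ?_, fun hv a ha => ?_⟩
    · rw [LinearMap.mem_ker, hedef, nil_apply, hv b hb.1, sub_self]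
    · rw [← sub_eq_zero, ← nil_apply]; exact hWA a ha v hv
  obtain ⟨k, hk, hτne⟩ := S.exists_tr_ne_zero hb.1 hbN hne
  have hdbK := S.conj_mul_mem hb.1 hbN hk
  set τ := S.tr (k * b * k⁻¹ * b) with hτdef
  have hτC : τ ∈ S.endC := S.tr_mem hb hbN hne hdbK
  obtain ⟨σ₀, hσ₀, hτσ, hστ⟩ := S.endC_inv hτC hτne
  set d := k * b * k⁻¹ with hddef
  have hdi : d⁻¹ = d := S.inv_conj hb.1 k
  set δ := nil S.r d with hδdef
  have hτeq : τ = e * δ + δ * e := S.tr_commutator hb.1 k
  have hδδ : δ * δ = 0 := by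
    have hdd : d * d = 1 := by nth_rw 1 [← hdi]; exact inv_mul_cancel d
    have h := congrArg (nil S.r) hdd
    rw [nil_mul, nil_one, add_assoc, end_add_self, add_zero] at h
    exact h
  have happτ : ∀ v, e v = 0 → τ v = e (δ v) := fun v hv => by
    simp [hτeq, hv]
  -- `V` is the double of `W`
  have hcardV : Nat.card V = Nat.card W * Nat.card W := by
    have hr : LinearMap.range e = W := le_antisymm
      (by rintro v ⟨u, rfl⟩; exact LinearMap.congr_fun hee u)
      (fun v hv => by
        obtain ⟨u, rfl⟩ := S.ker_nil_le_range hb hbN hne (LinearMap.mem_ker.1 hv); exact ⟨u, rfl⟩)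
    calc Nat.card V = Nat.card (LinearMap.ker e) * Nat.card (V ⧸ LinearMap.ker e) :=
          Submodule.card_eq_card_quotient_mul_card _
      _ = Nat.card W * Nat.card W := by rw [Nat.card_congr e.quotKerEquivRange.toEquiv, hr, hW]
  -- the map `c ↦ γδγ`
  set B := S.A ⊓ normalizer (S.K : Set G) with hB
  let ψ : G → Module.End (ZMod 2) V := fun c => nil S.r c * δ * nil S.r c
  have hM : ∀ c ∈ B, ∀ c' ∈ B,
      nil S.r c * δ * nil S.r c' + nil S.r c' * δ * nil S.r c = 0 := by
    intro c hc c' hc'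
    obtain ⟨hcA, hcN⟩ := mem_inf.1 hc
    obtain ⟨hcA', hcN'⟩ := mem_inf.1 hc'
    set γ := nil S.r c with hγ
    set γ' := nil S.r c' with hγ'
    have hconj : ∀ c ∈ S.A, c ∈ normalizer (S.K : Set G) → c * d * c * b ∈ S.K := by
      intro c hcA hcN
      have h := (Subgroup.mem_normalizer_iff.1 hcN _).1 hdbK
      rw [S.inv_eq_A hcA] at h
      rwa [show c * (d * b) * c = c * d * c * b by
        calc c * (d * b) * c = c * d * (b * c) := by simp only [mul_assoc]
          _ = c * d * c * b := by rw [S.comm b hb.1 c hcA, ← mul_assoc]] at h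
    set w := d * (c * d * c) * ((c' * d * c') * b) with hw
    have hwK : w ∈ S.K := by
      refine mul_mem ?_ (hconj c' hcA' hcN')
      have := mul_mem hdbK (inv_mem (hconj c hcA hcN))
      convert this using 1
      rw [mul_inv_rev, mul_inv_rev, mul_inv_rev, S.inv_eq_A hb.1, S.inv_eq_A hcA, hdi]
      simp only [← mul_assoc]
      rw [mul_assoc d b b, S.mul_self_A hb.1, mul_one]
    have hz : e * S.tr w * e = 0 := by
      rw [← (S.endC_commute_nil (S.tr_mem hb hbN hne hwK) b).eq, mul_assoc, hee, mul_zero]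
    set η := nil S.r (c * c') with hη
    have heta : η = γ + γ' := by rw [hη, nil_mul, hq c hcA c' hcA', zero_add]
    have hcc : c' * c = c * c' := S.comm c' hcA' c hcA
    have habs : ∀ a ∈ S.A, e * S.r a = e ∧ S.r a * e = e := fun a ha => by
      rw [r_eq_add (r := S.r) a, mul_add, add_mul, hedef, hq b hb.1 a ha, hq a ha b hb.1]
      simp
    have e1 : e * S.r w * e =
        e * (1 + δ) * (1 + γ) * (1 + δ) * (1 + η) * ((1 + δ) * e) := by
      have h0 : S.r (c' * b) * e = e := by
        rw [map_mul, mul_assoc, (habs b hb.1).2, (habs c' hcA').2]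
      rw [hw, show d * (c * d * c) * (c' * d * c' * b) = d * c * d * (c * c') * d * (c' * b) by
        simp [mul_assoc], map_mul _ _ (c' * b), ← mul_assoc, mul_assoc _ _ e, h0, hη, hδdef, hγ]
      generalize c * c' = m
      simp only [map_mul, mul_assoc, r_eq_add (r := S.r) d, r_eq_add (r := S.r) c,
        r_eq_add (r := S.r) m]
    have e2 : e * S.r w⁻¹ * e =
        e * (1 + δ) * (1 + η) * (1 + δ) * (1 + γ) * ((1 + δ) * e) := by
      have : w⁻¹ = (b * c') * d * (c * c') * d * c * d := by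
        simp only [hw, mul_inv_rev, S.inv_eq_A hb.1, S.inv_eq_A hcA, S.inv_eq_A hcA', hdi,
          ← hcc, mul_assoc]
      have h0 : e * S.r (b * c') = e := by
        rw [map_mul, ← mul_assoc, (habs b hb.1).1, (habs c' hcA').1]
      rw [this, map_mul, map_mul, map_mul, map_mul, map_mul, ← mul_assoc, ← mul_assoc, ← mul_assoc,
        ← mul_assoc, ← mul_assoc, h0, r_eq_add (r := S.r) d, r_eq_add (r := S.r) c,
        r_eq_add (r := S.r) (c * c'), mul_assoc _ (1 + nil S.r d) e]
    have heγ : e * γ = 0 := hq b hb.1 c hcA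
    have hγe : γ * e = 0 := hq c hcA b hb.1
    have heη : e * η = 0 := hq b hb.1 _ (mul_mem hcA hcA')
    have hηe : η * e = 0 := hq _ (mul_mem hcA hcA') b hb.1
    have s1 := sandwich hee hδδ heγ hγe heη hηe (hq c hcA _ (mul_mem hcA hcA'))
    have s2 := sandwich hee hδδ heη hηe heγ hγe (hq _ (mul_mem hcA hcA') c hcA)
    rw [tr, mul_add, add_mul, e1, e2, s1, s2, add_add_add_comm, end_add_self, zero_add] at hz
    set M := γ * δ * γ' + γ' * δ * γ with hMdef
    have hz' : e * δ * M * δ * e = 0 := by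
      rw [← hz, heta, hMdef]
      have : e * δ * γ * δ * (γ + γ') * δ * e + e * δ * (γ + γ') * δ * γ * δ * e =
          e * δ * (γ * δ * γ' + γ' * δ * γ) * δ * e +
            (e * δ * γ * δ * γ * δ * e + e * δ * γ * δ * γ * δ * e) := by noncomm_ring
      rw [this, end_add_self, add_zero]
    have heM : e * M = 0 := by
      rw [hMdef, mul_add, ← mul_assoc, ← mul_assoc, ← mul_assoc, ← mul_assoc, heγ,
        hq b hb.1 c' hcA']
      simp
    have hMe : M * e = 0 := by
      rw [hMdef, add_mul, mul_assoc, mul_assoc, mul_assoc, mul_assoc, hγe, hq c' hcA' b hb.1]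
      simp
    have h3 : M * δ * e = 0 := by
      have : τ * (M * δ * e) = 0 := by
        rw [hτeq, add_mul, mul_assoc δ e, ← mul_assoc e (M * δ) e, ← mul_assoc e M δ, heM,
          zero_mul, zero_mul, mul_zero, add_zero]
        simp only [← mul_assoc]
        exact hz'
      calc M * δ * e = σ₀ * τ * (M * δ * e) := by rw [hστ, one_mul]
        _ = 0 := by rw [mul_assoc, this, mul_zero]
    have h4 : M * τ = 0 := by
      rw [hτeq, mul_add, ← mul_assoc, ← mul_assoc, hMe, zero_mul, zero_add, h3]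
    calc M = M * (τ * σ₀) := by rw [hτσ, mul_one]
      _ = 0 := by rw [← mul_assoc, h4, zero_mul]
  have hψmul : ∀ c ∈ B, ∀ c' ∈ B, ψ (c * c') = ψ c + ψ c' := by
    intro c hc c' hc'
    have h0 := hM c hc c' hc'
    show nil S.r (c * c') * δ * nil S.r (c * c') = _
    rw [nil_mul, hq c (mem_inf.1 hc).1 c' (mem_inf.1 hc').1, zero_add]
    have : (nil S.r c + nil S.r c') * δ * (nil S.r c + nil S.r c') = ψ c + ψ c' +
        (nil S.r c * δ * nil S.r c' + nil S.r c' * δ * nil S.r c) := by
      simp only [ψ]; noncomm_ring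
    rw [this, h0, add_zero]
  have hψker : ∀ c ∈ B, ψ c = 0 → S.r c = 1 := by
    intro c hc h0
    obtain ⟨hcA, hcN⟩ := mem_inf.1 hc
    by_contra hcne
    refine hcne (nil_eq_zero.1 (LinearMap.ext fun v => ?_))
    have hev : e (nil S.r c v) = 0 := LinearMap.congr_fun (hb.2 c hcA) v
    have h1 : nil S.r c (δ (nil S.r c v)) = 0 := LinearMap.congr_fun h0 v
    obtain ⟨u, hu⟩ := S.ker_nil_le_range (hquad c hcA) hcN hcne h1
    have h2 : τ (nil S.r c v) = 0 := by
      rw [happτ _ hev, hu]; exact LinearMap.congr_fun (hb.2 c hcA) u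
    calc nil S.r c v = (σ₀ * τ) (nil S.r c v) := by rw [hστ, Module.End.one_apply]
      _ = 0 := by rw [Module.End.mul_apply, h2, map_zero]
  have hψD : ∀ c ∈ B, ∃ φ ∈ S.endC, ψ c = φ * e := by
    intro c hc
    obtain ⟨hcA, hcN⟩ := mem_inf.1 hc
    set γ := nil S.r c with hγ
    have hγe : γ * e = 0 := hq c hcA b hb.1
    have hgK : d * (c * d * c) ∈ S.K := by
      have h := (Subgroup.mem_normalizer_iff.1 hcN _).1 hdbK
      rw [S.inv_eq_A hcA] at h
      have := mul_mem hdbK (inv_mem h)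
      convert this using 1
      simp only [mul_inv_rev, S.inv_eq_A hb.1, S.inv_eq_A hcA, hdi, mul_assoc]
      rw [← mul_assoc b c, S.comm b hb.1 c hcA, mul_assoc c b, ← mul_assoc b b,
        S.mul_self_A hb.1, one_mul]
    have hi : (d * (c * d * c))⁻¹ = c * d * c * d := by
      simp [S.inv_eq_A hcA, hdi, mul_assoc]
    have hsum : S.tr (d * (c * d * c)) * e = γ * δ * γ * δ * e := by
      rw [tr, hi, add_mul]
      simp only [map_mul, mul_assoc, r_eq_add (r := S.r) d, r_eq_add (r := S.r) c, ← hγ, ← hδdef]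
      have hCe : (1 + γ) * e = e := by rw [add_mul, one_mul, hγe, add_zero]
      rw [hCe]
      have h1 : (1 + δ) * ((1 + γ) * ((1 + δ) * e)) = e + γ * δ * e + δ * γ * δ * e := by
        have : (1 + δ) * ((1 + γ) * ((1 + δ) * e)) =
            e + γ * δ * e + δ * γ * δ * e + (δ * e + δ * e) := by
          simp only [add_mul, mul_add, one_mul, mul_assoc, hγe, mul_zero, add_zero,
            ← mul_assoc δ δ, hδδ, zero_mul]
          abel
        rw [this, end_add_self, add_zero]
      rw [h1]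
      have hγγ : γ * γ = 0 := hq c hcA c hcA
      have h2 : (1 + γ) * (e + γ * δ * e + δ * γ * δ * e) =
          e + γ * δ * e + δ * γ * δ * e + γ * δ * γ * δ * e := by
        simp only [add_mul, mul_add, one_mul, hγe, ← mul_assoc, hγγ,
          zero_mul, zero_add, add_zero]
        abel
      rw [h2, ← add_assoc, end_add_self, zero_add]
      simp only [mul_assoc]
    have hδe : δ * e = τ + e * δ := by
      rw [hτeq, add_assoc, add_comm (δ * e), ← add_assoc, end_add_self, zero_add]
    refine ⟨S.tr (d * (c * d * c)) * σ₀, mul_mem (S.tr_mem hb hbN hne hgK) hσ₀, ?_⟩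
    rw [mul_assoc _ σ₀, (S.endC_commute_nil hσ₀ b).eq, ← mul_assoc, hsum, mul_assoc _ δ e, hδe,
      mul_add, ← mul_assoc _ e, mul_assoc _ γ e, hγe, mul_zero, zero_mul, add_zero, mul_assoc,
      hτσ, mul_one]
  -- counting
  have : Finite (Module.End (ZMod 2) V) := Finite.of_injective _ DFunLike.coe_injective
  have hA2 : Nat.card S.A ≤ 2 * Nat.card B := by
    classical
    let f : S.A → B ⊕ B := fun a =>
      if h : (a : G) ∈ normalizer (S.K : Set G) then Sum.inl ⟨a, mem_inf.2 ⟨a.2, h⟩⟩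
      else Sum.inr ⟨S.x₀ * a, mem_inf.2 ⟨mul_mem S.x₀_mem a.2, by
        by_contra hn
        exact S.false_of_pair S.x₀_mem a.2 S.x₀_notMem h hn (hq _ S.x₀_mem _ a.2)⟩⟩
    have hf : Function.Injective f := by
      intro a a' h
      simp only [f] at h
      split_ifs at h <;> simp at h <;> exact h
    have := Nat.card_le_card_of_injective f hf
    rw [Nat.card_sum] at this
    omega
  have hBD : Nat.card B ≤ Nat.card S.kerA * Nat.card S.endC := by
    choose φ hφC hφ using fun c : B => hψD c c.2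
    let φ' : B → S.endC := fun c => ⟨φ c, hφC c⟩
    have : Nonempty B := ⟨1⟩
    let rep : B → B := fun c => Function.invFun φ' (φ' c)
    have hrep : ∀ c, φ' (rep c) = φ' c := fun c => Function.invFun_eq ⟨c, rfl⟩
    have hker : ∀ c : B, ((rep c : B) : G) * c ∈ S.kerA := by
      intro c
      refine S.mem_kerA.2 ⟨mul_mem (mem_inf.1 (rep c).2).1 (mem_inf.1 c.2).1,
        hψker _ (mul_mem (rep c).2 c.2) ?_⟩
      rw [hψmul _ (rep c).2 _ c.2, hφ, hφ, show φ (rep c) = φ c from congrArg Subtype.val (hrep c),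
        end_add_self]
    let f : B → S.kerA × S.endC := fun c => (⟨_, hker c⟩, φ' c)
    have hf : Function.Injective f := by
      intro c c' h
      simp only [f, Prod.mk.injEq, Subtype.mk.injEq] at h
      obtain ⟨h1, h2⟩ := h
      have : rep c = rep c' := congrArg (Function.invFun φ') h2
      rw [this] at h1
      exact Subtype.ext (mul_left_cancel h1)
    have := Nat.card_le_card_of_injective f hf
    rwa [Nat.card_prod] at this
  have hWD : Nat.card W ≤ 2 * Nat.card S.endC := by
    have h0 := S.offender S.kerA inf_le_left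
    have e : fixed S.r S.kerA = ⊤ := eq_top_iff.2 fun v _ a ha => by
      rw [(S.mem_kerA.1 ha).2, Module.End.one_apply]
    rw [e, Nat.card_congr (Submodule.topEquiv (R := ZMod 2) (M := V)).toEquiv, hfix, hcardV,
      ← mul_assoc] at h0
    have h1 := Nat.le_of_mul_le_mul_right h0 Nat.card_pos
    have h2 : Nat.card S.kerA * Nat.card W ≤ Nat.card S.kerA * (2 * Nat.card S.endC) := by
      calc Nat.card S.kerA * Nat.card W ≤ Nat.card S.A := h1
        _ ≤ 2 * (Nat.card S.kerA * Nat.card S.endC) := hA2.trans (Nat.mul_le_mul_left _ hBD)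
        _ = _ := by ring
    exact Nat.le_of_mul_le_mul_left h2 Nat.card_pos
  -- a nonzero vector of `W`
  obtain ⟨v, hvW, hv0⟩ : ∃ v ∈ W, v ≠ 0 := by
    by_contra h
    push Not at h
    exact hne (nil_eq_zero.1 (LinearMap.ext fun u =>
      h (e u) (LinearMap.mem_ker.2 (LinearMap.congr_fun hee u))))
  by_cases hcyc : ∀ w ∈ W, ∃ α ∈ S.endC, α v = w
  · -- `V` is a free module of rank two over `endC`
    set h := S.r (d * b) with hh
    have hhv : h v = v + δ v := by
      rw [hh, map_mul, r_eq_add (r := S.r) d, r_eq_add (r := S.r) b]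
      simp [← hedef, ← hδdef, LinearMap.mem_ker.1 hvW]
    have hspan : ∀ u : V, ∃ α ∈ S.endC, ∃ β ∈ S.endC, u = α v + β (h v) := by
      intro u
      obtain ⟨α, hα, hαv⟩ := hcyc (e (δ u))
        (LinearMap.mem_ker.2 (LinearMap.congr_fun hee (δ u)))
      obtain ⟨β, hβ, hβv⟩ := hcyc (e u) (LinearMap.mem_ker.2 (LinearMap.congr_fun hee u))
      refine ⟨σ₀ * α - σ₀ * β, sub_mem (mul_mem hσ₀ hα) (mul_mem hσ₀ hβ), σ₀ * β,
        mul_mem hσ₀ hβ, ?_⟩
      have hβδ : δ (β v) = β (δ v) := (LinearMap.congr_fun (S.endC_commute_nil hβ d).eq v).symm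
      calc u = σ₀ (τ u) := by rw [← Module.End.mul_apply, hστ, Module.End.one_apply]
        _ = σ₀ (e (δ u) + δ (e u)) := by simp [hτeq]
        _ = _ := by
          rw [hhv, ← hαv, ← hβv, hβδ]
          simp only [LinearMap.sub_apply, Module.End.mul_apply, map_add]
          abel
    have hcomm : ∀ φ φ' : Module.End (ZMod 2) V, Commute φ h → Commute φ' h →
        (∀ α ∈ S.endC, Commute φ α) → (∀ α ∈ S.endC, Commute φ' α) → Commute φ φ' := by
      intro φ φ' h1 h2 h3 h4
      obtain ⟨α, hα, β, hβ, hφv⟩ := hspan (φ v)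
      have hφ : φ = α + β * h := by
        refine LinearMap.ext fun u => ?_
        obtain ⟨α', hα', β', hβ', rfl⟩ := hspan u
        have e1 : ∀ ξ ∈ S.endC, φ (ξ v) = (α + β * h) (ξ v) := by
          intro ξ hξ
          have k1 : φ (ξ v) = ξ (φ v) := LinearMap.congr_fun (h3 ξ hξ).eq v
          have k2 : Commute (α + β * h) ξ := (S.endC_commute hα hξ).add_left
            ((S.endC_commute hβ hξ).mul_left (S.endC_commute_r hξ _).symm)
          rw [k1, hφv, ← Module.End.mul_apply (α + β * h) ξ, k2.eq, Module.End.mul_apply]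
          simp [map_add]
        have k3 : Commute (α + β * h) h :=
          (S.endC_commute_r hα _).add_left ((S.endC_commute_r hβ _).mul_left (Commute.refl h))
        have e2 : φ (β' (h v)) = (α + β * h) (β' (h v)) := by
          have k4 : β' (h v) = h (β' v) := LinearMap.congr_fun (S.endC_commute_r hβ' _).eq v
          rw [k4, ← Module.End.mul_apply φ h, h1.eq, Module.End.mul_apply, e1 β' hβ',
            ← Module.End.mul_apply h, ← k3.eq, Module.End.mul_apply]
        rw [map_add, map_add, e1 α' hα', e2]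
      rw [hφ]
      exact ((h4 α hα).symm).add_left (((h4 β hβ).symm).mul_left h2.symm)
    refine S.false_of_commute fun g hg l hl => ?_
    have hc : ∀ m ∈ S.K, Commute (S.r (S.x₀ * m * S.x₀⁻¹)) h := fun m hm =>
      ((S.pair_commute S.x₀_mem S.x₀_notMem hdbK hm).map S.r).symm
    have := S.commute_conj (hcomm _ _ (hc g hg) (hc l hl) (fun α hα => (S.endC_commute_r hα _).symm)
      (fun α hα => (S.endC_commute_r hα _).symm)) S.x₀⁻¹
    simpa [mul_assoc] using this
  · push Not at hcyc
    obtain ⟨w, hwW, hw⟩ := hcyc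
    have hmemW : ∀ α ∈ S.endC, ∀ u ∈ W, α u ∈ W := fun α hα u hu => by
      rw [LinearMap.mem_ker] at hu ⊢
      rw [← Module.End.mul_apply, ← (S.endC_commute_nil hα b).eq, Module.End.mul_apply, ← hedef,
        hu, map_zero]
    let f : S.endC × S.endC → W := fun q =>
      ⟨(q.1 : Module.End (ZMod 2) V) v + (q.2 : Module.End (ZMod 2) V) w,
        add_mem (hmemW _ q.1.2 v hvW) (hmemW _ q.2.2 w hwW)⟩
    have hf : Function.Injective f := by
      rintro ⟨⟨α, hα⟩, ⟨β, hβ⟩⟩ ⟨⟨α', hα'⟩, ⟨β', hβ'⟩⟩ h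
      have h' : α v + β w = α' v + β' w := congrArg Subtype.val h
      have hβeq : β = β' := by
        by_contra hne'
        obtain ⟨ξ, hξ, -, h1⟩ := S.endC_inv (sub_mem hβ hβ') (sub_ne_zero.2 hne')
        refine hw (ξ * (α' - α)) (mul_mem hξ (sub_mem hα' hα)) ?_
        have : (α' - α) v = (β - β') w := by
          rw [LinearMap.sub_apply, LinearMap.sub_apply, sub_eq_sub_iff_add_eq_add, ← h', add_comm]
        rw [Module.End.mul_apply, this, ← Module.End.mul_apply, h1, Module.End.one_apply]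
      subst hβeq
      have hαeq : α = α' := by
        by_contra hne'
        refine hv0 (S.injective_of_commute (S.endC_commute_r (sub_mem hα hα')) (sub_ne_zero.2 hne')
          ?_)
        rw [map_zero, LinearMap.sub_apply, add_right_cancel h', sub_self]
      subst hαeq
      rfl
    have hle := Nat.card_le_card_of_injective f hf
    rw [Nat.card_prod] at hle
    have h2 : Nat.card S.endC ≤ 2 :=
      Nat.le_of_mul_le_mul_right (hle.trans hWD) Nat.card_pos
    refine S.false_of_tr fun g hg => ?_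
    by_contra hn
    push Not at hn
    have hV := S.nontrivial_space
    have h01 : (1 : Module.End (ZMod 2) V) ≠ 0 := fun h => hv0 (LinearMap.congr_fun h v)
    let j : Fin 3 → S.endC := ![0, 1, ⟨_, S.tr_mem hb hbN hne hg⟩]
    have hj : Function.Injective j := by
      intro a a' haa
      have haa' := congrArg Subtype.val haa
      fin_cases a <;> fin_cases a' <;> simp [j, h01, h01.symm, hn.1, hn.2, Ne.symm hn.1,
        Ne.symm hn.2] at haa' ⊢
    have := Nat.card_le_card_of_injective j hj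
    rw [Nat.card_fin] at this
    omega

end Setup

end Cfsg.Agent.Lib.PGV
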